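import Groth.Agent.Chow.Base
import Groth.Agent.FlatMor.SchDom
import Mathlib.AlgebraicGeometry.Noetherian

/-!
Chow's lemma: a separated scheme of finite type over a Noetherian base receives a proper
surjection, iso over a dense open, from a scheme immersed in a projective space over the base.
-/

universe u

open CategoryTheory CategoryTheory.Limits AlgebraicGeometry TopologicalSpace

namespace Groth.Agent.Chow

noncomputable section

/-- Gluing along a cover by two disjoint opens. -/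
theorem exists_glue_disjoint {T Y : Scheme.{u}} (A B : T.Opens) (hAB : A ⊔ B = ⊤)
    (hd : ∀ x, x ∈ A → x ∉ B) (a : A.toScheme ⟶ Y) (b : B.toScheme ⟶ Y) :
    ∃ c : T ⟶ Y, A.ι ≫ c = a ∧ B.ι ≫ c = b := by
  let 𝒰 : T.OpenCover := Scheme.Cover.mkOfCovers Bool
    (fun t => (if t then A else B).toScheme) (fun t => (if t then A else B).ι)
    (fun x => by
      have hx : x ∈ A ⊔ B := hAB ▸ trivial
      rcases hx with hx | hx
      · exact ⟨true, ⟨x, hx⟩, rfl⟩
      · exact ⟨false, ⟨x, hx⟩, rfl⟩)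
    (fun t => inferInstance)
  have hF : IsEmpty (pullback A.ι B.ι : Scheme.{u}) := ⟨fun p => by
    have h := congrArg (fun (q : pullback A.ι B.ι ⟶ T) => q p) (pullback.condition (f := A.ι) (g := B.ι))
    exact hd _ (pullback.fst A.ι B.ι p).2 (by
      show A.ι (pullback.fst A.ι B.ι p) ∈ B
      rw [← Scheme.Hom.comp_apply, h, Scheme.Hom.comp_apply]
      exact (pullback.snd A.ι B.ι p).2)⟩
  have hF' : IsEmpty (pullback B.ι A.ι : Scheme.{u}) :=
    Function.isEmpty (pullbackSymmetry B.ι A.ι).hom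
  let g : ∀ t, 𝒰.X t ⟶ Y := fun t => match t with
    | true => a
    | false => b
  have hg : ∀ t s, pullback.fst (𝒰.f t) (𝒰.f s) ≫ g t = pullback.snd _ _ ≫ g s := by
    intro t s
    cases t <;> cases s
    · show pullback.fst B.ι B.ι ≫ b = pullback.snd B.ι B.ι ≫ b
      rw [(cancel_mono B.ι).1 (pullback.condition (f := B.ι) (g := B.ι))]
    · exact (isInitialOfIsEmpty (X := pullback B.ι A.ι)).hom_ext _ _
    · exact (isInitialOfIsEmpty (X := pullback A.ι B.ι)).hom_ext _ _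
    · show pullback.fst A.ι A.ι ≫ a = pullback.snd A.ι A.ι ≫ a
      rw [(cancel_mono A.ι).1 (pullback.condition (f := A.ι) (g := A.ι))]
  exact ⟨𝒰.glueMorphisms g hg, 𝒰.ι_glueMorphisms g hg true, 𝒰.ι_glueMorphisms g hg false⟩

theorem exists_affine_pairs {X S : Scheme.{u}} (f : X ⟶ S) [CompactSpace X] :
    ∃ (k : ℕ) (U : Fin k → X.Opens) (V : Fin k → S.Opens),
      (∀ i, IsAffineOpen (U i)) ∧ (∀ i, IsAffineOpen (V i)) ∧ (∀ i, U i ≤ f ⁻¹ᵁ V i) ∧
        ∀ x, ∃ i, x ∈ U i := by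
  have h : ∀ x : X, ∃ (U : X.Opens) (V : S.Opens),
      IsAffineOpen U ∧ IsAffineOpen V ∧ U ≤ f ⁻¹ᵁ V ∧ x ∈ U := by
    intro x
    obtain ⟨_, ⟨V, hV, rfl⟩, hxV, -⟩ :=
      S.isBasis_affineOpens.exists_subset_of_mem_open (Set.mem_univ (f x)) isOpen_univ
    obtain ⟨_, ⟨U, hU, rfl⟩, hxU, hUV⟩ :=
      X.isBasis_affineOpens.exists_subset_of_mem_open (hxV : x ∈ f ⁻¹ᵁ V) (f ⁻¹ᵁ V).isOpen
    exact ⟨U, V, hU, hV, hUV, hxU⟩
  choose U V hU hV hUV hx using h
  obtain ⟨t, ht⟩ := isCompact_univ.elim_finite_subcover (fun x => (U x : Set X))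
    (fun x => (U x).isOpen) (fun x _ => Set.mem_iUnion.2 ⟨x, hx x⟩)
  refine ⟨t.card, fun i => U (t.equivFin.symm i), fun i => V (t.equivFin.symm i),
    fun i => hU _, fun i => hV _, fun i => hUV _, fun x => ?_⟩
  obtain ⟨y, hy, hxy⟩ := Set.mem_iUnion₂.1 (ht (Set.mem_univ x))
  exact ⟨t.equivFin ⟨y, hy⟩, by simpa using hxy⟩

theorem exists_dense_opens {X : Scheme.{u}} {k : ℕ} (U : Fin k → X.Opens) :
    ∃ W : X.Opens, Dense (W : Set X) ∧ ∀ i, ∀ x ∈ W, x ∈ U i ∨ x ∉ closure (U i : Set X) := by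
  classical
  suffices h : ∀ s : Finset (Fin k), ∃ W : X.Opens, Dense (W : Set X) ∧
      ∀ i ∈ s, ∀ x ∈ W, x ∈ U i ∨ x ∉ closure (U i : Set X) by
    obtain ⟨W, h1, h2⟩ := h Finset.univ
    exact ⟨W, h1, fun i => h2 i (Finset.mem_univ i)⟩
  intro s
  induction s using Finset.induction_on with
  | empty => exact ⟨⊤, dense_univ, fun i hi => by simp at hi⟩
  | @insert i s hi ih =>
    obtain ⟨W, hW, hs⟩ := ih
    let W' : X.Opens := ⟨(U i : Set X) ∪ (closure (U i : Set X))ᶜ,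
      (U i).isOpen.union isClosed_closure.isOpen_compl⟩
    have hW' : Dense (W' : Set X) := fun x => by
      by_cases hx : x ∈ closure (U i : Set X)
      · exact closure_mono Set.subset_union_left hx
      · exact subset_closure (Or.inr hx)
    refine ⟨W ⊓ W', hW.inter_of_isOpen_left hW' W.isOpen, fun j hj x hx => ?_⟩
    rcases Finset.mem_insert.1 hj with rfl | hj
    · exact hx.2
    · exact hs j hj x hx.1

/-- A morphism given near a dense open, extended by a section avoiding the chart. -/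
theorem exists_extension {X S P : Scheme.{u}} (f : X ⟶ S) (b : P ⟶ S) (Ω : P.Opens) (s : S ⟶ P)
    (hs : s ≫ b = 𝟙 S) (hsΩ : ∀ y, s y ∉ Ω) (Ui W : X.Opens)
    (hW : ∀ x ∈ W, x ∈ Ui ∨ x ∉ closure (Ui : Set X))
    (j : Ui.toScheme ⟶ Ω.toScheme) (hj : j ≫ Ω.ι ≫ b = Ui.ι ≫ f) :
    ∃ φ : W.toScheme ⟶ P, φ ≫ b = W.ι ≫ f ∧
      (∀ (T : Scheme.{u}) (t : T ⟶ W.toScheme) (t₁ : T ⟶ Ui.toScheme),
        t₁ ≫ Ui.ι = t ≫ W.ι → t ≫ φ = t₁ ≫ j ≫ Ω.ι) ∧
      ∀ x, φ x ∈ Ω → W.ι x ∈ Ui := by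
  set A : W.toScheme.Opens := W.ι ⁻¹ᵁ Ui
  set B : W.toScheme.Opens := W.ι ⁻¹ᵁ ⟨(closure (Ui : Set X))ᶜ, isClosed_closure.isOpen_compl⟩
  have hAB : A ⊔ B = ⊤ := eq_top_iff.2 fun x _ => hW _ x.2
  have hd : ∀ x, x ∈ A → x ∉ B := fun x hA hB => hB (subset_closure hA)
  have hAi : Set.range (A.ι ≫ W.ι) ⊆ Set.range Ui.ι := by
    rintro _ ⟨x, rfl⟩
    rw [Scheme.Opens.range_ι]
    exact x.2
  set α : A.toScheme ⟶ Ui.toScheme := IsOpenImmersion.lift Ui.ι (A.ι ≫ W.ι) hAi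
  obtain ⟨φ, hA, hB⟩ := exists_glue_disjoint A B hAB hd (α ≫ j ≫ Ω.ι) (B.ι ≫ W.ι ≫ f ≫ s)
  refine ⟨φ, ?_, ?_, ?_⟩
  · obtain ⟨c, -, -⟩ := exists_glue_disjoint A B hAB hd A.ι B.ι
    let 𝒰 : W.toScheme.OpenCover := Scheme.Cover.mkOfCovers Bool
      (fun t => (if t then A else B).toScheme) (fun t => (if t then A else B).ι)
      (fun x => by
        have hx : x ∈ A ⊔ B := hAB ▸ trivial
        rcases hx with hx | hx
        · exact ⟨true, ⟨x, hx⟩, rfl⟩
        · exact ⟨false, ⟨x, hx⟩, rfl⟩)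
      (fun t => inferInstance)
    refine 𝒰.hom_ext _ _ fun t => ?_
    cases t
    · show B.ι ≫ φ ≫ b = B.ι ≫ W.ι ≫ f
      rw [← Category.assoc, hB, Category.assoc, Category.assoc, Category.assoc, hs, Category.comp_id]
    · show A.ι ≫ φ ≫ b = A.ι ≫ W.ι ≫ f
      rw [← Category.assoc, hA, Category.assoc, Category.assoc, hj, ← Category.assoc,
        IsOpenImmersion.lift_fac, Category.assoc]
  · intro T t t₁ h
    have ht : Set.range t ⊆ Set.range A.ι := by
      rintro _ ⟨x, rfl⟩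
      rw [Scheme.Opens.range_ι]
      show W.ι (t x) ∈ Ui
      rw [← Scheme.Hom.comp_apply, ← h, Scheme.Hom.comp_apply]
      exact (t₁ x).2
    have h1 : IsOpenImmersion.lift A.ι t ht ≫ α = t₁ := by
      rw [← cancel_mono Ui.ι, Category.assoc, IsOpenImmersion.lift_fac, IsOpenImmersion.lift_fac_assoc, h]
    conv_lhs => rw [← IsOpenImmersion.lift_fac A.ι t ht, Category.assoc, hA]
    rw [← Category.assoc, h1]
  · intro x hx
    by_contra hU
    have hxB : x ∈ B := (hW _ x.2).resolve_left hU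
    have : φ x = s (f (W.ι x)) := by
      have h := congrArg (fun (q : B.toScheme ⟶ P) => q ⟨x, hxB⟩) hB
      exact h
    exact hsΩ _ (this ▸ hx)

theorem apply_eq_of_dense {M Y S : Scheme.{u}} (b : Y ⟶ S) [IsSeparated b] (a a' : M ⟶ Y)
    (h : a ≫ b = a' ≫ b) (D : M.Opens) (hD : Dense (D : Set M)) (he : D.ι ≫ a = D.ι ≫ a')
    (y : M) : a y = a' y := by
  set e := pullback.lift (f := b) (g := b) a a' h with he'
  have hfac : (D.ι ≫ e) = (D.ι ≫ a) ≫ pullback.diagonal b := by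
    refine pullback.hom_ext ?_ ?_
    · rw [Category.assoc, Category.assoc, he']
      erw [pullback.lift_fst]
      simp
    · rw [Category.assoc, Category.assoc, he']
      erw [pullback.lift_snd]
      simp [he]
  let d : D.toScheme ⟶ pullback e (pullback.diagonal b) := pullback.lift D.ι (D.ι ≫ a) hfac
  have hsub : (D : Set M) ⊆ Set.range (pullback.fst e (pullback.diagonal b)) := by
    intro z hz
    refine ⟨d (⟨z, hz⟩ : D.toScheme), ?_⟩
    show (d ≫ pullback.fst e (pullback.diagonal b)) (⟨z, hz⟩ : D.toScheme) = z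
    rw [pullback.lift_fst]
    rfl
  have hcl : IsClosed (Set.range (pullback.fst e (pullback.diagonal b))) :=
    (pullback.fst e (pullback.diagonal b)).isClosedEmbedding.isClosed_range
  obtain ⟨z, rfl⟩ : y ∈ Set.range (pullback.fst e (pullback.diagonal b)) :=
    hcl.closure_subset_iff.2 hsub (hD y)
  have hc := pullback.condition (f := e) (g := pullback.diagonal b)
  have h1 : pullback.fst e (pullback.diagonal b) ≫ a = pullback.snd e (pullback.diagonal b) := by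
    have := congrArg (· ≫ pullback.fst b b) hc
    simp only [Category.assoc, pullback.diagonal_fst, Category.comp_id, he'] at this
    erw [pullback.lift_fst] at this
    exact this
  have h2 : pullback.fst e (pullback.diagonal b) ≫ a' = pullback.snd e (pullback.diagonal b) := by
    have := congrArg (· ≫ pullback.snd b b) hc
    simp only [Category.assoc, pullback.diagonal_snd, Category.comp_id, he'] at this
    erw [pullback.lift_snd] at this
    exact this
  rw [← Scheme.Hom.comp_apply, ← Scheme.Hom.comp_apply, h1, h2]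

/-- The graph closure of `U → P` is isomorphic to `U` above `U`. -/
theorem isIso_restrict_image {Q X : Scheme.{u}} (p : Q ⟶ X) [IsSeparated p] (U : X.Opens)
    (φ : U.toScheme ⟶ Q) [IsImmersion φ] [QuasiCompact φ] (hφ : φ ≫ p = U.ι) :
    IsIso ((φ.imageι ≫ p) ∣_ U) := by
  have hrange : Set.range φ ⊆ Set.range (p ⁻¹ᵁ U).ι := by
    rintro _ ⟨x, rfl⟩
    rw [Scheme.Opens.range_ι]
    show p (φ x) ∈ U
    rw [← Scheme.Hom.comp_apply, hφ]
    exact x.2
  set φU := IsOpenImmersion.lift (p ⁻¹ᵁ U).ι φ hrange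
  have hφU : φU ≫ (p ∣_ U) = 𝟙 _ := by
    rw [← cancel_mono U.ι, Category.assoc, morphismRestrict_ι, ← Category.assoc,
      IsOpenImmersion.lift_fac, hφ, Category.id_comp]
  have hcl : IsClosedImmersion φU := by
    have : IsClosedImmersion (φU ≫ (p ∣_ U)) := by rw [hφU]; infer_instance
    exact IsClosedImmersion.of_comp φU (p ∣_ U)
  set π := φ.imageι ≫ p
  have hι : φ.toImage ≫ π = U.ι := by rw [← Category.assoc, Scheme.Hom.toImage_imageι, hφ]
  have hto : Set.range φ.toImage ⊆ Set.range (π ⁻¹ᵁ U).ι := by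
    rintro _ ⟨x, rfl⟩
    rw [Scheme.Opens.range_ι]
    show π (φ.toImage x) ∈ U
    rw [← Scheme.Hom.comp_apply, hι]
    exact x.2
  set e := IsOpenImmersion.lift (π ⁻¹ᵁ U).ι φ.toImage hto
  have he : IsOpenImmersion e := by
    have : IsOpenImmersion (e ≫ (π ⁻¹ᵁ U).ι) := by rw [IsOpenImmersion.lift_fac]; infer_instance
    exact IsOpenImmersion.of_comp e (π ⁻¹ᵁ U).ι
  have hsurj : Surjective e := by
    refine ⟨fun y => ?_⟩
    have hy : φ.imageι ((π ⁻¹ᵁ U).ι y) ∈ closure (Set.range φ) := by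
      rw [← Scheme.Hom.support_ker, ← Scheme.IdealSheafData.range_subschemeι]
      exact ⟨_, rfl⟩
    let y' : (p ⁻¹ᵁ U).toScheme := ⟨φ.imageι ((π ⁻¹ᵁ U).ι y), y.2⟩
    have hy' : y' ∈ closure (Set.range φU) := by
      rw [(p ⁻¹ᵁ U).ι.isEmbedding.closure_eq_preimage_closure_image, Set.mem_preimage,
        ← Set.range_comp]
      have hc : ⇑(p ⁻¹ᵁ U).ι ∘ ⇑φU = ⇑φ := by
        funext a
        show (φU ≫ (p ⁻¹ᵁ U).ι) a = φ a
        rw [IsOpenImmersion.lift_fac]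
      rw [hc]
      exact hy
    rw [φU.isClosedEmbedding.isClosed_range.closure_eq] at hy'
    obtain ⟨u, hu⟩ := hy'
    refine ⟨u, (π ⁻¹ᵁ U).ι.isEmbedding.injective ?_⟩
    apply φ.imageι.isEmbedding.injective
    have h2 : φ u = φ.imageι ((π ⁻¹ᵁ U).ι y) := by
      refine Eq.trans ?_ (congrArg (p ⁻¹ᵁ U).ι hu)
      show φ u = (φU ≫ (p ⁻¹ᵁ U).ι) u
      rw [IsOpenImmersion.lift_fac]
    rw [← h2, ← Scheme.Hom.comp_apply, ← Scheme.Hom.comp_apply, IsOpenImmersion.lift_fac_assoc,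
      Scheme.Hom.toImage_imageι]
  have : IsIso e := (isIso_iff_isOpenImmersion_and_surjective e).2 ⟨he, hsurj⟩
  have hcomp : e ≫ (π ∣_ U) = 𝟙 _ := by
    rw [← cancel_mono U.ι, Category.assoc, morphismRestrict_ι, ← Category.assoc,
      IsOpenImmersion.lift_fac, hι, Category.id_comp]
  have : π ∣_ U = inv e := by rw [← cancel_epi e, hcomp, IsIso.hom_inv_id]
  rw [this]
  infer_instance

theorem isClosedImmersion_restrict_of_factor {W Q P Z : Scheme.{u}} (φ : W ⟶ Q) [QuasiCompact φ]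
    (r : Q ⟶ P) (O : P.Opens) (G : Z ⟶ (r ⁻¹ᵁ O).toScheme) [IsClosedImmersion G]
    [IsClosedImmersion (G ≫ (r ∣_ O))] (t : (φ ⁻¹ᵁ (r ⁻¹ᵁ O)).toScheme ⟶ Z)
    (ht : t ≫ G = φ ∣_ (r ⁻¹ᵁ O)) :
    IsClosedImmersion ((φ.imageι ≫ r) ∣_ O) := by
  let Qi : Q.Opens := r ⁻¹ᵁ O
  have h1 : φ ∣_ Qi = (W.isoOfEq (show φ ⁻¹ᵁ Qi = φ.toImage ⁻¹ᵁ (φ.imageι ⁻¹ᵁ Qi) by
        rw [← Scheme.Hom.comp_preimage φ.toImage φ.imageι Qi, Scheme.Hom.toImage_imageι])).hom ≫
      (φ.toImage ∣_ (φ.imageι ⁻¹ᵁ Qi)) ≫ (φ.imageι ∣_ Qi) := by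
    rw [← cancel_mono Qi.ι]
    simp [morphismRestrict_ι]
  have hdom : IsSchemeTheoreticallyDominant (φ.toImage ∣_ (φ.imageι ⁻¹ᵁ Qi)) := by
    have := FlatMor.SchDom.toImage_dominant φ (Or.inl inferInstance)
    exact IsSchemeTheoreticallyDominant.of_isPullback
      (isPullback_morphismRestrict φ.toImage (φ.imageι ⁻¹ᵁ Qi)).flip
  have hker : G.ker ≤ (φ.imageι ∣_ Qi).ker := by
    have h2 : (φ ∣_ Qi).ker = (φ.imageι ∣_ Qi).ker := by
      rw [h1, Scheme.Hom.ker_comp_of_isIso, Scheme.Hom.ker_comp, Scheme.Hom.ker_eq_bot,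
        Scheme.IdealSheafData.map_bot]
    rw [← h2, ← ht]
    exact Scheme.Hom.le_ker_comp t G
  set w := IsClosedImmersion.lift G (φ.imageι ∣_ Qi) hker
  have hw : w ≫ G = φ.imageι ∣_ Qi := IsClosedImmersion.lift_fac _ _ _
  have hwc : IsClosedImmersion w := by
    have : IsClosedImmersion (w ≫ G) := by rw [hw]; infer_instance
    exact IsClosedImmersion.of_comp w G
  rw [morphismRestrict_comp, ← hw, Category.assoc]
  exact IsClosedImmersion.comp w (G ≫ (r ∣_ O))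

theorem isImmersion_of_restrict {X Y : Scheme.{u}} (q : X ⟶ Y) {ι : Type*} (O : ι → Y.Opens)
    (hcov : ∀ x, ∃ i, q x ∈ O i) (h : ∀ i, IsClosedImmersion (q ∣_ O i)) : IsImmersion q := by
  set V : Y.Opens := ⨆ i, O i
  have hV : IsClosedImmersion (q ∣_ V) := by
    refine IsZariskiLocalAtTarget.of_iSup_eq_top (P := @IsClosedImmersion)
      (fun i => V.ι ⁻¹ᵁ O i) ?_ fun i => ?_
    · rw [← Scheme.Hom.preimage_iSup]
      exact eq_top_iff.2 fun x _ => x.2
    · refine ((MorphismProperty.arrow_mk_iso_iff @IsClosedImmersion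
        (morphismRestrictRestrict q V (V.ι ⁻¹ᵁ O i))).2 ?_)
      have e : V.ι ''ᵁ (V.ι ⁻¹ᵁ O i) = O i := by
        rw [Scheme.Hom.image_preimage_eq_opensRange_inf, Scheme.Opens.opensRange_ι,
          inf_eq_right.2 (le_iSup O i)]
      rw [e]
      exact h i
  have htop : q ⁻¹ᵁ V = ⊤ := eq_top_iff.2 fun x _ => by
    obtain ⟨i, hi⟩ := hcov x
    exact le_iSup O i hi
  have : IsIso (q ⁻¹ᵁ V).ι := by
    rw [htop]
    exact (X.topIso).isIso_hom
  have : q = inv (q ⁻¹ᵁ V).ι ≫ (q ∣_ V) ≫ V.ι := by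
    rw [morphismRestrict_ι, IsIso.inv_hom_id_assoc]
  rw [this]
  infer_instance

/-- Chow's lemma. -/
theorem chow {X S : Scheme.{u}} (f : X ⟶ S) [IsNoetherian S] [IsSeparated f]
    [LocallyOfFiniteType f] [QuasiCompact f] :
    ∃ (n : ℕ) (X' : Scheme.{u}) (π : X' ⟶ X) (j : X' ⟶ CohB1.ProjSpaceOver n S),
      IsImmersion j ∧ j ≫ CohB1.ProjSpaceOver.toBase n S = π ≫ f ∧ IsProper π ∧ Surjective π ∧
      ∃ U : X.Opens, Dense (U : Set X) ∧ IsIso (π ∣_ U) := by
  classical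
  have : CompactSpace X := QuasiCompact.compactSpace_of_compactSpace f
  have : IsLocallyNoetherian X := LocallyOfFiniteType.isLocallyNoetherian f
  have : IsNoetherian X := {}
  obtain ⟨k, U, V, hU, hV, hUV, hcov⟩ := exists_affine_pairs f
  have hdat : ∀ i, ∃ (n : ℕ) (Ω : (CohB1.ProjSpaceOver (n + 1) S).Opens)
      (j : (U i).toScheme ⟶ Ω.toScheme) (s : S ⟶ CohB1.ProjSpaceOver (n + 1) S),
      IsClosedImmersion j ∧ j ≫ Ω.ι ≫ CohB1.ProjSpaceOver.toBase (n + 1) S = (U i).ι ≫ f ∧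
        s ≫ CohB1.ProjSpaceOver.toBase (n + 1) S = 𝟙 S ∧ ∀ y, s y ∉ Ω := by
    intro i
    have : IsAffine (U i).toScheme := hU i
    obtain ⟨n, Ω, j, hΩ, hj, hjb⟩ := exists_affine_chart S (hV i) (f.resLE (V i) (U i) (hUV i))
    obtain ⟨s, hs, hs'⟩ := exists_section_avoiding S n
    exact ⟨n, Ω, j, s, hj, hjb.trans (Scheme.Hom.resLE_comp_ι _ _), hs, fun y h => hs' y (hΩ h)⟩
  choose d Ω j s hjc hjb hsb hsΩ using hdat
  obtain ⟨W, hWd, hW⟩ := exists_dense_opens U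
  have hφi := fun i => exists_extension f _ (Ω i) (s i) (hsb i) (hsΩ i) (U i) W (hW i) (j i) (hjb i)
  choose φi hφib hφiU hφiΩ using hφi
  obtain ⟨N, P, c, pr, hc, hpr, hl⟩ := exists_prodProj S k (fun i => d i + 1)
  obtain ⟨l, hlb, hlpr⟩ := hl W.toScheme (W.ι ≫ f) φi hφib
  have := ProjProper.Basic.isProper_toBase N S
  set bP := c ≫ CohB1.ProjSpaceOver.toBase N S with hbP
  set Q := pullback f bP
  set φ : W.toScheme ⟶ Q := pullback.lift W.ι l hlb.symm
  have hφfst : φ ≫ pullback.fst f bP = W.ι := pullback.lift_fst _ _ _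
  have hφsnd : φ ≫ pullback.snd f bP = l := pullback.lift_snd _ _ _
  have : IsImmersion φ := by
    have : IsImmersion (φ ≫ pullback.fst f bP) := by rw [hφfst]; infer_instance
    exact IsImmersion.of_comp φ (pullback.fst f bP)
  have : QuasiCompact φ := by
    have : QuasiCompact (φ ≫ pullback.fst f bP) := by rw [hφfst]; infer_instance
    exact QuasiCompact.of_comp φ (pullback.fst f bP)
  set π := φ.imageι ≫ pullback.fst f bP
  set q := φ.imageι ≫ pullback.snd f bP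
  have hπ : IsProper π := inferInstanceAs (IsProper (φ.imageι ≫ pullback.fst f bP))
  have hιπ : φ.toImage ≫ π = W.ι := by rw [← Category.assoc, Scheme.Hom.toImage_imageι, hφfst]
  have hιq : φ.toImage ≫ q = l := by rw [← Category.assoc, Scheme.Hom.toImage_imageι, hφsnd]
  have hqb : q ≫ bP = π ≫ f := by
    simp only [π, q, Category.assoc, pullback.condition]
  refine ⟨N, φ.image, π, q ≫ c, ?_, ?_, hπ, ?_, W, hWd, ?_⟩
  rotate_left
  · rw [Category.assoc, ← hbP, hqb]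
  · refine ⟨fun x => ?_⟩
    have hcl : IsClosed (Set.range π) := π.isClosedMap.isClosed_range
    refine hcl.closure_subset_iff.2 ?_ (hWd x)
    intro y hy
    refine ⟨φ.toImage (⟨y, hy⟩ : W.toScheme), ?_⟩
    show (φ.toImage ≫ π) (⟨y, hy⟩ : W.toScheme) = y
    rw [hιπ]
    rfl
  · exact isIso_restrict_image (pullback.fst f bP) W φ hφfst
  suffices IsImmersion q from inferInstance
  refine isImmersion_of_restrict q (fun i => pr i ⁻¹ᵁ Ω i) (fun x => ?_) fun i => ?_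
  · obtain ⟨i, hi⟩ := hcov (π x)
    refine ⟨i, ?_⟩
    set M := π ⁻¹ᵁ U i
    set D : M.toScheme.Opens := M.ι ⁻¹ᵁ φ.toImage.opensRange
    have hD : Dense (D : Set M) :=
      (φ.toImage.denseRange : Dense (Set.range φ.toImage)).preimage M.ι.isOpenEmbedding.isOpenMap
    have hDr : Set.range (D.ι ≫ M.ι) ⊆ Set.range φ.toImage := by
      rintro _ ⟨z, rfl⟩
      exact z.2
    have hlift := IsOpenImmersion.lift_fac φ.toImage (D.ι ≫ M.ι) hDr
    have key : D.ι ≫ M.ι ≫ q ≫ pr i = D.ι ≫ (π ∣_ U i) ≫ j i ≫ (Ω i).ι := by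
      have h1 := hφiU i D.toScheme (IsOpenImmersion.lift φ.toImage (D.ι ≫ M.ι) hDr) (D.ι ≫ (π ∣_ U i))
        (by rw [← hιπ, ← Category.assoc (IsOpenImmersion.lift _ _ _), hlift, Category.assoc,
          Category.assoc, morphismRestrict_ι])
      rw [← hlpr i, ← hιq, Category.assoc, ← Category.assoc (IsOpenImmersion.lift _ _ _), hlift,
        Category.assoc, Category.assoc] at h1
      exact h1
    have := ProjProper.Basic.isProper_toBase (d i + 1) S
    have heq := apply_eq_of_dense (CohB1.ProjSpaceOver.toBase (d i + 1) S)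
      (M.ι ≫ q ≫ pr i) ((π ∣_ U i) ≫ j i ≫ (Ω i).ι)
      (by simp only [Category.assoc, hpr i, hjb i, ← hbP, hqb, morphismRestrict_ι_assoc]; rfl)
      D hD key ⟨x, hi⟩
    show pr i (q x) ∈ Ω i
    have h3 : (M.ι ≫ q ≫ pr i) ⟨x, hi⟩ = pr i (q x) := rfl
    rw [← h3, heq]
    exact ((j i) ((π ∣_ U i) ⟨x, hi⟩)).2
  set O := pr i ⁻¹ᵁ Ω i
  set r := pullback.snd f bP
  have := hjc i
  set z := pullback.fst (pr i ∣_ Ω i) (j i)
  set u := pullback.snd (pr i ∣_ Ω i) (j i)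
  have hzu : (z ≫ O.ι) ≫ bP = (u ≫ (U i).ι) ≫ f := by
    rw [← hpr i, Category.assoc, ← morphismRestrict_ι_assoc, ← Category.assoc z, pullback.condition,
      Category.assoc, hjb i, Category.assoc]
  set G₀ := pullback.lift (u ≫ (U i).ι) (z ≫ O.ι) hzu.symm
  have hG₀ : Set.range G₀ ⊆ Set.range (r ⁻¹ᵁ O).ι := by
    rintro _ ⟨y, rfl⟩
    rw [Scheme.Opens.range_ι]
    show r (G₀ y) ∈ O
    rw [← Scheme.Hom.comp_apply, pullback.lift_snd, Scheme.Hom.comp_apply]
    exact (z y).2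
  set G := IsOpenImmersion.lift (r ⁻¹ᵁ O).ι G₀ hG₀
  have hGz : G ≫ (r ∣_ O) = z := by
    rw [← cancel_mono O.ι, Category.assoc, morphismRestrict_ι, ← Category.assoc,
      IsOpenImmersion.lift_fac, pullback.lift_snd]
  have hz : IsClosedImmersion (G ≫ (r ∣_ O)) := by rw [hGz]; infer_instance
  have hGc : IsClosedImmersion G := IsClosedImmersion.of_comp G (r ∣_ O)
  set T := φ ⁻¹ᵁ (r ⁻¹ᵁ O)
  have hT : ∀ y : T.toScheme, l (T.ι y) ∈ O := by
    intro y
    rw [← hφsnd, Scheme.Hom.comp_apply]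
    exact y.2
  have ht1 : Set.range (T.ι ≫ W.ι) ⊆ Set.range (U i).ι := by
    rintro _ ⟨y, rfl⟩
    rw [Scheme.Opens.range_ι]
    refine hφiΩ i (T.ι y) ?_
    rw [← hlpr i, Scheme.Hom.comp_apply]
    exact hT y
  have ht2 : Set.range (T.ι ≫ l) ⊆ Set.range O.ι := by
    rintro _ ⟨y, rfl⟩
    rw [Scheme.Opens.range_ι]
    exact hT y
  set t1 := IsOpenImmersion.lift (U i).ι (T.ι ≫ W.ι) ht1
  set t2 := IsOpenImmersion.lift O.ι (T.ι ≫ l) ht2
  have htc : t2 ≫ (pr i ∣_ Ω i) = t1 ≫ j i := by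
    rw [← cancel_mono (Ω i).ι, Category.assoc, morphismRestrict_ι, ← Category.assoc,
      IsOpenImmersion.lift_fac, Category.assoc, hlpr i, Category.assoc,
      hφiU i _ T.ι t1 (IsOpenImmersion.lift_fac _ _ _)]
  refine isClosedImmersion_restrict_of_factor φ r O G (pullback.lift t2 t1 htc) ?_
  rw [← cancel_mono (r ⁻¹ᵁ O).ι, Category.assoc, IsOpenImmersion.lift_fac, morphismRestrict_ι]
  apply pullback.hom_ext
  · simp only [G₀, z, u, Category.assoc, pullback.lift_fst, pullback.lift_snd_assoc, hφfst]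
    exact IsOpenImmersion.lift_fac _ _ _
  · simp only [G₀, z, u, Category.assoc, pullback.lift_snd, pullback.lift_fst_assoc, hφsnd]
    exact (IsOpenImmersion.lift_fac _ _ _).trans (congrArg (T.ι ≫ ·) hφsnd.symm)

end

end Groth.Agent.Chow
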