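import Groth.Agent.Chow.Main

/-!
Chow's lemma over a quasi-compact quasi-separated base without finiteness of components: one
construction on each stratum of an affine cover, glued inside one projective space.
-/

universe u

open CategoryTheory CategoryTheory.Limits AlgebraicGeometry TopologicalSpace

namespace Groth.Agent.Chow

noncomputable section

/-- The construction for a given affine cover and a compact open avoiding its boundaries. -/
theorem chow_given {X S : Scheme.{u}} (f : X ⟶ S) [CompactSpace S] [QuasiSeparatedSpace S] [IsSeparated f]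
    [LocallyOfFiniteType f] [QuasiCompact f] {k : ℕ} (U : Fin k → X.Opens) (V : Fin k → S.Opens)
    (hU : ∀ i, IsAffineOpen (U i)) (hV : ∀ i, IsAffineOpen (V i)) (hUV : ∀ i, U i ≤ f ⁻¹ᵁ V i)
    (hcov : ∀ x, ∃ i, x ∈ U i) (W : X.Opens) (hWc : IsCompact (W : Set X))
    (hW : ∀ i, ∀ x ∈ W, x ∈ U i ∨ x ∉ closure (U i : Set X)) :
    ∃ (N : ℕ) (Xbar : Scheme.{u}) (π : Xbar ⟶ X) (j : Xbar ⟶ CohB1.ProjSpaceOver N S),
      IsProper π ∧ IsImmersion j ∧ j ≫ CohB1.ProjSpaceOver.toBase N S = π ≫ f ∧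
        ∀ x ∈ W, x ∈ Set.range π := by
  classical
  have : CompactSpace X := QuasiCompact.compactSpace_of_compactSpace f
  have : QuasiSeparatedSpace X := quasiSeparatedSpace_of_quasiSeparated f
  have hdat : ∀ i, ∃ (n : ℕ) (Ω : (CohB1.ProjSpaceOver (n + 1) S).Opens)
      (j : (U i).toScheme ⟶ Ω.toScheme) (s : S ⟶ CohB1.ProjSpaceOver (n + 1) S),
      IsClosedImmersion j ∧ j ≫ Ω.ι ≫ CohB1.ProjSpaceOver.toBase (n + 1) S = (U i).ι ≫ f ∧
        s ≫ CohB1.ProjSpaceOver.toBase (n + 1) S = 𝟙 S ∧ ∀ y, s y ∉ Ω := by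
    intro i
    have : IsAffine (U i).toScheme := hU i
    obtain ⟨n, Ω, j, hΩ, hj, hjb⟩ := exists_affine_chart S (hV i) (f.resLE (V i) (U i) (hUV i))
    obtain ⟨s, hs, hs'⟩ := exists_section_avoiding S n
    exact ⟨n, Ω, j, s, hj, hjb.trans (Scheme.Hom.resLE_comp_ι _ _), hs, fun y h => hs' y (hΩ h)⟩
  choose d Ω j s hjc hjb hsb hsΩ using hdat
  have hφi := fun i => exists_extension f _ (Ω i) (s i) (hsb i) (hsΩ i) (U i) W (hW i) (j i) (hjb i)
  choose φi hφib hφiU hφiΩ using hφi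
  obtain ⟨N, P, c, pr, hc, hpr, hl⟩ := exists_prodProj S k (fun i => d i + 1)
  obtain ⟨l, hlb, hlpr⟩ := hl W.toScheme (W.ι ≫ f) φi hφib
  have := ProjProper.Basic.isProper_toBase N S
  set bP := c ≫ CohB1.ProjSpaceOver.toBase N S with hbP
  set Q := pullback f bP
  set φ : W.toScheme ⟶ Q := pullback.lift W.ι l hlb.symm
  have hφfst : φ ≫ pullback.fst f bP = W.ι := pullback.lift_fst _ _ _
  have hφsnd : φ ≫ pullback.snd f bP = l := pullback.lift_snd _ _ _
  have hWqc : QuasiCompact W.ι := by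
    refine ⟨fun V hVo hVc => ?_⟩
    rw [W.ι.isOpenEmbedding.isEmbedding.isCompact_iff, Set.image_preimage_eq_inter_range, Scheme.Opens.range_ι]
    exact QuasiSeparatedSpace.inter_isCompact _ _ hVo hVc W.isOpen hWc
  have : IsImmersion φ := by
    have : IsImmersion (φ ≫ pullback.fst f bP) := by rw [hφfst]; infer_instance
    exact IsImmersion.of_comp φ (pullback.fst f bP)
  have : QuasiCompact φ := by
    have : QuasiCompact (φ ≫ pullback.fst f bP) := by rw [hφfst]; infer_instance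
    exact QuasiCompact.of_comp φ (pullback.fst f bP)
  set π := φ.imageι ≫ pullback.fst f bP
  set q := φ.imageι ≫ pullback.snd f bP
  have hπ : IsProper π := inferInstanceAs (IsProper (φ.imageι ≫ pullback.fst f bP))
  have hιπ : φ.toImage ≫ π = W.ι := by rw [← Category.assoc, Scheme.Hom.toImage_imageι, hφfst]
  have hιq : φ.toImage ≫ q = l := by rw [← Category.assoc, Scheme.Hom.toImage_imageι, hφsnd]
  have hqb : q ≫ bP = π ≫ f := by
    simp only [π, q, Category.assoc, pullback.condition]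
  refine ⟨N, φ.image, π, q ≫ c, hπ, ?_, ?_, fun x hx =>
    ⟨φ.toImage (⟨x, hx⟩ : W.toScheme), congrArg (fun (g : W.toScheme ⟶ X) => g ⟨x, hx⟩) hιπ⟩⟩
  rotate_left
  · rw [Category.assoc, ← hbP, hqb]
  · suffices IsImmersion q from inferInstance
    refine isImmersion_of_restrict q (fun i => pr i ⁻¹ᵁ Ω i) (fun x => ?_) fun i => ?_
    · obtain ⟨i, hi⟩ := hcov (π x)
      refine ⟨i, ?_⟩
      set M := π ⁻¹ᵁ U i
      set D : M.toScheme.Opens := M.ι ⁻¹ᵁ φ.toImage.opensRange
      have hD : Dense (D : Set M) :=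
        (φ.toImage.denseRange : Dense (Set.range φ.toImage)).preimage M.ι.isOpenEmbedding.isOpenMap
      have hDr : Set.range (D.ι ≫ M.ι) ⊆ Set.range φ.toImage := by
        rintro _ ⟨z, rfl⟩
        exact z.2
      have hlift := IsOpenImmersion.lift_fac φ.toImage (D.ι ≫ M.ι) hDr
      have key : D.ι ≫ M.ι ≫ q ≫ pr i = D.ι ≫ (π ∣_ U i) ≫ j i ≫ (Ω i).ι := by
        have h1 := hφiU i D.toScheme (IsOpenImmersion.lift φ.toImage (D.ι ≫ M.ι) hDr) (D.ι ≫ (π ∣_ U i))
          (by rw [← hιπ, ← Category.assoc (IsOpenImmersion.lift _ _ _), hlift, Category.assoc,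
            Category.assoc, morphismRestrict_ι])
        rw [← hlpr i, ← hιq, Category.assoc, ← Category.assoc (IsOpenImmersion.lift _ _ _), hlift,
          Category.assoc, Category.assoc] at h1
        exact h1
      have := ProjProper.Basic.isProper_toBase (d i + 1) S
      have heq := apply_eq_of_dense (CohB1.ProjSpaceOver.toBase (d i + 1) S)
        (M.ι ≫ q ≫ pr i) ((π ∣_ U i) ≫ j i ≫ (Ω i).ι)
        (by simp only [Category.assoc, hpr i, hjb i, ← hbP, hqb, morphismRestrict_ι_assoc]; rfl)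
        D hD key ⟨x, hi⟩
      show pr i (q x) ∈ Ω i
      have h3 : (M.ι ≫ q ≫ pr i) ⟨x, hi⟩ = pr i (q x) := rfl
      rw [← h3, heq]
      exact ((j i) ((π ∣_ U i) ⟨x, hi⟩)).2
    set O := pr i ⁻¹ᵁ Ω i
    set r := pullback.snd f bP
    have := hjc i
    set z := pullback.fst (pr i ∣_ Ω i) (j i)
    set u := pullback.snd (pr i ∣_ Ω i) (j i)
    have hzu : (z ≫ O.ι) ≫ bP = (u ≫ (U i).ι) ≫ f := by
      rw [← hpr i, Category.assoc, ← morphismRestrict_ι_assoc, ← Category.assoc z, pullback.condition,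
        Category.assoc, hjb i, Category.assoc]
    set G₀ := pullback.lift (u ≫ (U i).ι) (z ≫ O.ι) hzu.symm
    have hG₀ : Set.range G₀ ⊆ Set.range (r ⁻¹ᵁ O).ι := by
      rintro _ ⟨y, rfl⟩
      rw [Scheme.Opens.range_ι]
      show r (G₀ y) ∈ O
      rw [← Scheme.Hom.comp_apply, pullback.lift_snd, Scheme.Hom.comp_apply]
      exact (z y).2
    set G := IsOpenImmersion.lift (r ⁻¹ᵁ O).ι G₀ hG₀
    have hGz : G ≫ (r ∣_ O) = z := by
      rw [← cancel_mono O.ι, Category.assoc, morphismRestrict_ι, ← Category.assoc,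
        IsOpenImmersion.lift_fac, pullback.lift_snd]
    have hz : IsClosedImmersion (G ≫ (r ∣_ O)) := by rw [hGz]; infer_instance
    have hGc : IsClosedImmersion G := IsClosedImmersion.of_comp G (r ∣_ O)
    set T := φ ⁻¹ᵁ (r ⁻¹ᵁ O)
    have hT : ∀ y : T.toScheme, l (T.ι y) ∈ O := by
      intro y
      rw [← hφsnd, Scheme.Hom.comp_apply]
      exact y.2
    have ht1 : Set.range (T.ι ≫ W.ι) ⊆ Set.range (U i).ι := by
      rintro _ ⟨y, rfl⟩
      rw [Scheme.Opens.range_ι]
      refine hφiΩ i (T.ι y) ?_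
      rw [← hlpr i, Scheme.Hom.comp_apply]
      exact hT y
    have ht2 : Set.range (T.ι ≫ l) ⊆ Set.range O.ι := by
      rintro _ ⟨y, rfl⟩
      rw [Scheme.Opens.range_ι]
      exact hT y
    set t1 := IsOpenImmersion.lift (U i).ι (T.ι ≫ W.ι) ht1
    set t2 := IsOpenImmersion.lift O.ι (T.ι ≫ l) ht2
    have htc : t2 ≫ (pr i ∣_ Ω i) = t1 ≫ j i := by
      rw [← cancel_mono (Ω i).ι, Category.assoc, morphismRestrict_ι, ← Category.assoc,
        IsOpenImmersion.lift_fac, Category.assoc, hlpr i, Category.assoc,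
        hφiU i _ T.ι t1 (IsOpenImmersion.lift_fac _ _ _)]
    refine isClosedImmersion_restrict_of_factor φ r O G (pullback.lift t2 t1 htc) ?_
    rw [← cancel_mono (r ⁻¹ᵁ O).ι, Category.assoc, IsOpenImmersion.lift_fac, morphismRestrict_ι]
    apply pullback.hom_ext
    · simp only [G₀, z, u, Category.assoc, pullback.lift_fst, pullback.lift_snd_assoc, hφfst]
      exact IsOpenImmersion.lift_fac _ _ _
    · simp only [G₀, z, u, Category.assoc, pullback.lift_snd, pullback.lift_fst_assoc, hφsnd]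
      exact (IsOpenImmersion.lift_fac _ _ _).trans (congrArg (T.ι ≫ ·) hφsnd.symm)

theorem isImmersion_sigmaDesc {ι : Type u} {Y : ι → Scheme.{u}} {T : Scheme.{u}} (a : ∀ i, Y i ⟶ T)
    [∀ i, IsImmersion (a i)] (O : ι → T.Opens) (hO : ∀ i y, a i y ∈ O i)
    (hd : ∀ i l y, a l y ∈ O i → i = l) : IsImmersion (Sigma.desc a) := by
  set φ := Sigma.desc a
  have hφ : ∀ l y, φ (Sigma.ι Y l y) = a l y := fun l y => by
    rw [← Scheme.Hom.comp_apply, Sigma.ι_desc]
  have hsurj : ∀ x, ∃ l y, Sigma.ι Y l y = x := fun x => by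
    obtain ⟨l, y, hy⟩ := (sigmaOpenCover Y).exists_eq x
    exact ⟨l, y, hy⟩
  have hpiece : ∀ i, IsImmersion (φ ∣_ O i) := by
    intro i
    have h : φ ⁻¹ᵁ O i = (Sigma.ι Y i).opensRange := by
      ext x
      obtain ⟨l, y, rfl⟩ := hsurj x
      refine ⟨fun hx => ?_, ?_⟩
      · have hx' : φ (Sigma.ι Y l y) ∈ O i := hx
        rw [hφ] at hx'
        obtain rfl := hd i l y hx'
        exact ⟨y, rfl⟩
      · rintro ⟨z, hz⟩
        show φ (Sigma.ι Y l y) ∈ O i
        rw [← hz, hφ]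
        exact hO i z
    have hb : Set.range (a i) ⊆ Set.range (O i).ι := by
      rintro _ ⟨y, rfl⟩
      rw [Scheme.Opens.range_ι]
      exact hO i y
    set b := IsOpenImmersion.lift (O i).ι (a i) hb
    have : IsImmersion b := by
      have : IsImmersion (b ≫ (O i).ι) := by rw [IsOpenImmersion.lift_fac]; infer_instance
      exact IsImmersion.of_comp b (O i).ι
    have e : φ ∣_ O i = ((∐ Y).isoOfEq h).hom ≫ (Sigma.ι Y i).isoOpensRange.inv ≫ b := by
      rw [← cancel_mono (O i).ι, morphismRestrict_ι, Category.assoc, Category.assoc,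
        IsOpenImmersion.lift_fac]
      conv_rhs => rw [← Sigma.ι_desc a i, Scheme.Hom.isoOpensRange_inv_comp_assoc,
        Scheme.isoOfEq_hom_ι_assoc]
    rw [e]
    infer_instance
  set V : T.Opens := ⨆ i, O i
  have : MorphismProperty.RespectsIso @IsImmersion.{u} :=
    MorphismProperty.RespectsIso.mk _ (fun e f hf => have := hf; inferInstance)
      (fun e f hf => have := hf; inferInstance)
  have hV : IsImmersion (φ ∣_ V) := by
    refine IsZariskiLocalAtTarget.of_iSup_eq_top (P := @IsImmersion)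
      (fun i => V.ι ⁻¹ᵁ O i) ?_ fun i => ?_
    · rw [← Scheme.Hom.preimage_iSup]
      exact eq_top_iff.2 fun x _ => x.2
    · refine ((MorphismProperty.arrow_mk_iso_iff @IsImmersion
        (morphismRestrictRestrict φ V (V.ι ⁻¹ᵁ O i))).2 ?_)
      have e : V.ι ''ᵁ (V.ι ⁻¹ᵁ O i) = O i := by
        rw [Scheme.Hom.image_preimage_eq_opensRange_inf, Scheme.Opens.opensRange_ι,
          inf_eq_right.2 (le_iSup O i)]
      rw [e]
      exact hpiece i
  have htop : φ ⁻¹ᵁ V = ⊤ := eq_top_iff.2 fun x _ => by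
    obtain ⟨l, y, rfl⟩ := hsurj x
    show φ (Sigma.ι Y l y) ∈ V
    rw [hφ]
    exact le_iSup O l (hO l y)
  have : IsIso (φ ⁻¹ᵁ V).ι := by
    rw [htop]
    exact ((∐ Y).topIso).isIso_hom
  have : φ = inv (φ ⁻¹ᵁ V).ι ≫ (φ ∣_ V) ≫ V.ι := by
    rw [morphismRestrict_ι, IsIso.inv_hom_id_assoc]
  rw [this]
  infer_instance

theorem exists_section_coord (n : ℕ) (S : Scheme.{u}) (i : Fin (n + 1)) :
    ∃ s : S ⟶ CohB1.ProjSpaceOver n S, s ≫ CohB1.ProjSpaceOver.toBase n S = 𝟙 S ∧
      ∀ (l : Fin (n + 1)) (x : S),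
        (toZ S n (s x) ∈ Proj.basicOpen (CohB1.polyGrading n (ULift.{u} ℤ)) (MvPolynomial.X l) ↔ l = i) := by
  classical
  let ev : MvPolynomial (Fin (n + 1)) (ULift.{u} ℤ) →+* Γ(S, ⊤) :=
    MvPolynomial.eval₂Hom ((specHom (term S)) : (ULift.{u} ℤ) →+* _) (fun j => if j = i then 1 else 0)
  have hu : IsUnit (ev (MvPolynomial.X i)) := by simp [ev]
  refine ⟨mkPt S (pt ev (MvPolynomial.X i) (X_mem i) one_pos hu) (𝟙 S), mkPt_toBase S _ _, fun l x => ?_⟩
  rw [← Scheme.Hom.comp_apply, mkPt_toZ]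
  show x ∈ pt ev (MvPolynomial.X i) (X_mem i) one_pos hu ⁻¹ᵁ
      Proj.basicOpen (CohB1.polyGrading n (ULift.{u} ℤ)) (MvPolynomial.X l) ↔ _
  rw [pt_preimage_basicOpen ev (X_mem i) (X_mem l) hu]
  by_cases h : l = i <;> simp [ev, h]

/-- Chow's lemma over a quasi-compact quasi-separated base. -/
theorem chow_surjective {X S : Scheme.{u}} (f : X ⟶ S) [CompactSpace S] [QuasiSeparatedSpace S]
    [IsSeparated f] [LocallyOfFiniteType f] [QuasiCompact f] :
    ∃ (n : ℕ) (X' : Scheme.{u}) (π : X' ⟶ X) (j : X' ⟶ CohB1.ProjSpaceOver n S),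
      IsImmersion j ∧ j ≫ CohB1.ProjSpaceOver.toBase n S = π ≫ f ∧ IsProper π ∧ Surjective π := by
  classical
  have : CompactSpace X := QuasiCompact.compactSpace_of_compactSpace f
  have : QuasiSeparatedSpace X := quasiSeparatedSpace_of_quasiSeparated f
  obtain ⟨k, U, V, hU, hV, hUV, hcov⟩ := exists_affine_pairs f
  let ι' : Type u := ULift.{u} (Finset (Fin k))
  -- strata
  have hst : ∀ J : ι', ∃ (Z : Scheme.{u}) (i : Z ⟶ X) (W : Z.Opens) (_ : IsClosedImmersion i),
      IsCompact (W : Set Z) ∧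
      (∀ l, ∀ z ∈ W, z ∈ i ⁻¹ᵁ U l ∨ z ∉ closure ((i ⁻¹ᵁ U l : Z.Opens) : Set Z)) ∧
      ∀ x, (∀ l, x ∈ U l ↔ l ∈ J.down) → ∃ z ∈ W, i z = x := by
    intro J
    let C : Closeds X := ⟨(⋃ l, ⋃ (_ : l ∉ J.down), (U l : Set X))ᶜ,
      (isOpen_iUnion fun l => isOpen_iUnion fun _ => (U l).isOpen).isClosed_compl⟩
    let I := Scheme.IdealSheafData.vanishingIdeal C
    let O : X.Opens := J.down.inf U
    have hO : IsCompact (O : Set X) := by
      show IsCompact ((J.down.inf U : X.Opens) : Set X)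
      induction J.down using Finset.induction_on with
      | empty => exact isCompact_univ
      | @insert a s _ ih =>
        rw [Finset.inf_insert]
        exact QuasiSeparatedSpace.inter_isCompact _ _ (U a).isOpen (hU a).isCompact (s.inf U).isOpen ih
    have hsupp : Set.range I.subschemeι = (C : Set X) := by
      rw [Scheme.IdealSheafData.range_subschemeι, Scheme.IdealSheafData.coe_support_vanishingIdeal]
    refine ⟨I.subscheme, I.subschemeι, I.subschemeι ⁻¹ᵁ O, inferInstance,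
      QuasiCompact.isCompact_preimage _ O.isOpen hO, fun l z hz => ?_, fun x hx => ?_⟩
    · by_cases hl : l ∈ J.down
      · exact Or.inl ((Finset.inf_le hl : O ≤ U l) hz)
      · refine Or.inr fun hc => ?_
        have hemp : ((I.subschemeι ⁻¹ᵁ U l : I.subscheme.Opens) : Set I.subscheme) = ∅ := by
          refine Set.eq_empty_of_forall_notMem fun w hw => ?_
          have : I.subschemeι w ∈ (C : Set X) := hsupp ▸ Set.mem_range_self w
          exact this (Set.mem_iUnion₂.2 ⟨l, hl, hw⟩)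
        rw [hemp, closure_empty] at hc
        exact hc
    · have hxC : x ∈ (C : Set X) := by
        intro h
        obtain ⟨l, hl, hxl⟩ := Set.mem_iUnion₂.1 h
        exact hl ((hx l).1 hxl)
      rw [← hsupp] at hxC
      obtain ⟨z, rfl⟩ := hxC
      refine ⟨z, ?_, rfl⟩
      show I.subschemeι z ∈ J.down.inf U
      have : ∀ s : Finset (Fin k), (∀ l ∈ s, I.subschemeι z ∈ U l) → I.subschemeι z ∈ s.inf U := by
        intro s
        induction s using Finset.induction_on with
        | empty => exact fun _ => trivial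
        | @insert a s _ ih =>
          intro h
          rw [Finset.inf_insert]
          exact ⟨h a (Finset.mem_insert_self _ _), ih fun l hl => h l (Finset.mem_insert_of_mem hl)⟩
      exact this _ fun l hl => (hx l).2 hl
  choose Z ζ W hζ hWc hWp hWx using hst
  have hloc : ∀ J : ι', ∃ (N : ℕ) (Y : Scheme.{u}) (π : Y ⟶ Z J) (j : Y ⟶ CohB1.ProjSpaceOver N S),
      IsProper π ∧ IsImmersion j ∧ j ≫ CohB1.ProjSpaceOver.toBase N S = π ≫ ζ J ≫ f ∧
        ∀ z ∈ W J, z ∈ Set.range π := fun J =>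
    have := hζ J
    chow_given (ζ J ≫ f) (fun i => ζ J ⁻¹ᵁ U i) V (fun i => (hU i).preimage (ζ J)) hV
      (fun i _ hz => hUV i hz) (fun z => hcov (ζ J z)) (W J) (hWc J) (hWp J)
  choose N Y π j hπ hj hjb hWπ using hloc
  -- common projective space
  obtain ⟨m, ⟨e⟩⟩ := Finite.exists_equiv_fin ι'
  let d : Fin (m + 1) → ℕ := Fin.cases m (fun l => N (e.symm l))
  obtain ⟨M, P, c, pr, hc, hpr, hl⟩ := exists_prodProj S (m + 1) d
  choose σ hσ hσD using fun i => exists_section_coord m S i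
  choose s₀ hs₀ _hs₀ using fun l : Fin (m + 1) => exists_section_coord (d l) S 0
  have hmap : ∀ J : ι', ∃ q : Y J ⟶ P, q ≫ c ≫ CohB1.ProjSpaceOver.toBase M S = π J ≫ ζ J ≫ f ∧
      IsImmersion q ∧ q ≫ pr 0 = (π J ≫ ζ J ≫ f) ≫ σ (e J).castSucc := by
    intro J
    let g := π J ≫ ζ J ≫ f
    have h : ∀ l : Fin (m + 1), ∃ a : Y J ⟶ CohB1.ProjSpaceOver (d l) S,
        a ≫ CohB1.ProjSpaceOver.toBase (d l) S = g ∧
          (l = (e J).succ → IsImmersion a) ∧
          (∀ h0 : l = 0, HEq a (g ≫ σ (e J).castSucc)) := by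
      intro l
      induction l using Fin.cases with
      | zero =>
        refine ⟨g ≫ σ (e J).castSucc, ?_, fun h => absurd h.symm (Fin.succ_ne_zero _), fun _ => HEq.rfl⟩
        exact (Category.assoc _ _ _).trans ((congrArg (g ≫ ·) (hσ _)).trans (Category.comp_id _))
      | succ l =>
        by_cases h : l = e J
        · subst h
          have key : ∀ (J' : ι') (_ : J' = J), ∃ a : Y J ⟶ CohB1.ProjSpaceOver (N J') S,
              a ≫ CohB1.ProjSpaceOver.toBase (N J') S = g ∧ IsImmersion a := by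
            rintro _ rfl
            exact ⟨j _, hjb _, hj _⟩
          obtain ⟨a, ha, ha'⟩ := key (e.symm (e J)) (e.symm_apply_apply J)
          exact ⟨a, ha, fun _ => ha', fun h0 => absurd h0 (Fin.succ_ne_zero _)⟩
        · refine ⟨g ≫ s₀ l.succ, ?_, fun h' => absurd (Fin.succ_injective _ h') h,
            fun h0 => absurd h0 (Fin.succ_ne_zero _)⟩
          rw [Category.assoc, hs₀, Category.comp_id]
    choose a hab hai ha0 using h
    obtain ⟨q, hqg, hqa⟩ := hl (Y J) g a hab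
    refine ⟨q, hqg, ?_, ?_⟩
    · have : IsImmersion (q ≫ pr (e J).succ) := by rw [hqa]; exact hai _ rfl
      exact IsImmersion.of_comp q (pr (e J).succ)
    · rw [hqa]
      exact eq_of_heq (ha0 0 rfl)
  choose q hqb hqi hq0 using hmap
  let bP := c ≫ CohB1.ProjSpaceOver.toBase M S
  have := ProjProper.Basic.isProper_toBase M S
  let ψ : ∀ J : ι', Y J ⟶ pullback f bP := fun J =>
    pullback.lift (π J ≫ ζ J) (q J) (by rw [Category.assoc]; exact (hqb J).symm)
  let O : ι' → P.Opens := fun J =>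
    pr 0 ⁻¹ᵁ (toZ S m ⁻¹ᵁ Proj.basicOpen (CohB1.polyGrading m (ULift.{u} ℤ)) (MvPolynomial.X (e J).castSucc))
  have hmem : ∀ J l y, q J y ∈ O l ↔ l = J := by
    intro J l y
    show toZ S m (pr 0 (q J y)) ∈ Proj.basicOpen _ _ ↔ _
    rw [← Scheme.Hom.comp_apply (q J), hq0]
    exact (hσD _ _ _).trans ⟨fun h => e.injective (Fin.castSucc_injective _ h), fun h => h ▸ rfl⟩
  have hψs : ∀ J, ψ J ≫ pullback.snd f bP = q J := fun J => pullback.lift_snd _ _ _
  have hψf : ∀ J, ψ J ≫ pullback.fst f bP = π J ≫ ζ J := fun J => pullback.lift_fst _ _ _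
  have hψi : ∀ J, IsImmersion (ψ J) := fun J => by
    have : IsImmersion (ψ J ≫ pullback.snd f bP) := by rw [hψs]; exact hqi J
    exact IsImmersion.of_comp (ψ J) (pullback.snd f bP)
  have hψc : ∀ J, IsClosed (Set.range (ψ J)) := fun J => by
    have := hζ J
    have := hπ J
    have : IsProper (ψ J ≫ pullback.fst f bP) := by rw [hψf]; infer_instance
    have : IsProper (ψ J) := IsProper.of_comp (ψ J) (pullback.fst f bP)
    exact (ψ J).isClosedMap.isClosed_range
  set Ψ := Sigma.desc ψ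
  have hΨ : IsImmersion Ψ := isImmersion_sigmaDesc ψ (fun J => pullback.snd f bP ⁻¹ᵁ O J)
    (fun J y => by
      show pullback.snd f bP (ψ J y) ∈ O J
      rw [← Scheme.Hom.comp_apply, hψs]
      exact (hmem J J y).2 rfl)
    fun l J y h => by
      refine (hmem J l y).1 ?_
      rw [← hψs, Scheme.Hom.comp_apply]
      exact h
  have hΨc : IsClosedImmersion Ψ := by
    refine IsClosedImmersion.of_isPreimmersion Ψ ?_
    have : Set.range Ψ = ⋃ J, Set.range (ψ J) := by
      refine Set.Subset.antisymm ?_ (Set.iUnion_subset fun J => ?_)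
      · rintro _ ⟨x, rfl⟩
        obtain ⟨J, y, rfl⟩ := (sigmaOpenCover Y).exists_eq x
        refine Set.mem_iUnion.2 ⟨J, y, ?_⟩
        rw [← Sigma.ι_desc ψ J]
        rfl
      · rintro _ ⟨y, rfl⟩
        refine ⟨Sigma.ι Y J y, ?_⟩
        rw [← Scheme.Hom.comp_apply, Sigma.ι_desc]
    rw [this]
    exact isClosed_iUnion_of_finite hψc
  refine ⟨M, ∐ Y, Ψ ≫ pullback.fst f bP, (Ψ ≫ pullback.snd f bP) ≫ c, ?_, ?_, ?_, ?_⟩
  · have : IsImmersion (Ψ ≫ pullback.snd f bP) := by
      have : ∀ J, IsImmersion (q J) := hqi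
      have e' : Ψ ≫ pullback.snd f bP = Sigma.desc q := by
        refine Sigma.hom_ext _ _ fun J => ?_
        rw [Sigma.ι_desc_assoc, hψs, Sigma.ι_desc]
      rw [e']
      exact isImmersion_sigmaDesc q O (fun J y => (hmem J J y).2 rfl) fun l J y h => (hmem J l y).1 h
    infer_instance
  · rw [Category.assoc, Category.assoc, Category.assoc, pullback.condition]
  · infer_instance
  · refine ⟨fun x => ?_⟩
    let J : ι' := ⟨Finset.univ.filter fun l => x ∈ U l⟩
    obtain ⟨z, hzW, hz⟩ := hWx J x fun l => by simp [J]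
    obtain ⟨y, hy⟩ := hWπ J z hzW
    refine ⟨Sigma.ι Y J y, ?_⟩
    rw [← Scheme.Hom.comp_apply, Sigma.ι_desc_assoc, hψf, ← hz, ← hy]
    rfl

end

end Groth.Agent.Chow
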