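import Groth.Prelude.Def_CohB1
import Groth.Agent.ZetaLib.ProjPoints

/-!
Morphisms into `P^n_R` from coordinates: `pt ev f` for a ring map `ev` out of the polynomial ring
into `Γ(T, ⊤)` and a homogeneous `f` with `ev f` invertible.
-/

universe u v

open CategoryTheory CategoryTheory.Limits AlgebraicGeometry MvPolynomial HomogeneousLocalization

namespace Groth.Agent.Chow

noncomputable section

/-- The ring map attached to a morphism to an affine scheme. -/
def specHom {T : Scheme.{u}} {C : CommRingCat.{u}} (a : T ⟶ Spec C) : C →+* Γ(T, ⊤) :=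
  ((Scheme.ΓSpecIso C).inv ≫ a.appTop).hom

theorem toSpecΓ_specHom {T : Scheme.{u}} {C : CommRingCat.{u}} (a : T ⟶ Spec C) :
    T.toSpecΓ ≫ Spec.map (CommRingCat.ofHom (specHom a)) = a := by
  simp only [specHom, CommRingCat.ofHom_hom, Spec.map_comp]
  rw [← Scheme.toSpecΓ_naturality_assoc, toSpecΓ_SpecMap_ΓSpecIso_inv, Category.comp_id]

theorem specHom_toSpecΓ {T : Scheme.{u}} {C : CommRingCat.{u}} (φ : C →+* Γ(T, ⊤)) :
    specHom (T.toSpecΓ ≫ Spec.map (CommRingCat.ofHom φ)) = φ := by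
  simp [specHom, Scheme.toSpecΓ_appTop, Scheme.ΓSpecIso_naturality, ← Scheme.ΓSpecIso_inv_naturality_assoc]

theorem toSpecΓ_SpecMap_injective {T : Scheme.{u}} {C : CommRingCat.{u}} {φ ψ : C →+* Γ(T, ⊤)}
    (h : T.toSpecΓ ≫ Spec.map (CommRingCat.ofHom φ) = T.toSpecΓ ≫ Spec.map (CommRingCat.ofHom ψ)) :
    φ = ψ := by
  rw [← specHom_toSpecΓ φ, h, specHom_toSpecΓ]

theorem eval₂_smul_of_isHomogeneous {σ R B : Type*} [CommRing R] [CommRing B] (ρ : R →+* B)
    (v : σ → B) (c : B) {a : MvPolynomial σ R} {d : ℕ} (ha : a.IsHomogeneous d) :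
    eval₂ ρ (fun i => c * v i) a = c ^ d * eval₂ ρ v a := by
  rw [eval₂_eq, eval₂_eq, Finset.mul_sum]
  refine Finset.sum_congr rfl fun m hm => ?_
  have hd : ∑ i ∈ m.support, m i = d := by
    have := ha (mem_support_iff.1 hm)
    simpa [Finsupp.weight_apply, Finsupp.sum] using this
  simp only [mul_pow, Finset.prod_mul_distrib, Finset.prod_pow_eq_pow_sum, hd]
  ring

variable {n : ℕ} {R : Type u} [CommRing R] {B : Type v} [CommRing B]

theorem X_mem (i : Fin (n + 1)) :
    (X i : MvPolynomial (Fin (n + 1)) R) ∈ CohB1.polyGrading n R 1 :=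
  (mem_homogeneousSubmodule 1 _).mpr (isHomogeneous_X R i)

theorem C_mem (r : R) : (C r : MvPolynomial (Fin (n + 1)) R) ∈ CohB1.polyGrading n R 0 :=
  (mem_homogeneousSubmodule 0 _).mpr (isHomogeneous_C _ r)

/-- `P^n_R`, written as `Proj`. -/
abbrev Pr (n : ℕ) (R : Type u) [CommRing R] : Scheme.{u} := Proj (CohB1.polyGrading n R)

/-- The structure map of `P^n_R`. -/
abbrev str (n : ℕ) (R : Type u) [CommRing R] : Pr n R ⟶ Spec (CommRingCat.of R) :=
  Proj.toSpecZero (CohB1.polyGrading n R) ≫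
    Spec.map (CommRingCat.ofHom (algebraMap R (CohB1.polyGrading n R 0)))

/-- The chart `D₊(X i)` of `P^n_R`. -/
abbrev chart (n : ℕ) (R : Type u) [CommRing R] (i : Fin (n + 1)) :
    Spec (.of <| Away (CohB1.polyGrading n R) (X i)) ⟶ Pr n R :=
  Proj.awayι (CohB1.polyGrading n R) (X i) (X_mem i) one_pos

/-- Dehomogenisation at `X i`. -/
abbrev dh (n : ℕ) (R : Type u) [CommRing R] (i : Fin (n + 1)) :
    MvPolynomial (Fin (n + 1)) R →+* Away (CohB1.polyGrading n R) (X i) :=
  ZetaLib.dehom (CohB1.polyGrading n R) (X_mem i)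

/-- The scalars inside a homogeneous localisation. -/
abbrev scal (n : ℕ) (R : Type u) [CommRing R] (f : MvPolynomial (Fin (n + 1)) R) :
    R →+* Away (CohB1.polyGrading n R) f :=
  (fromZeroRingHom (CohB1.polyGrading n R) _).comp (algebraMap R (CohB1.polyGrading n R 0))

theorem dh_C (i : Fin (n + 1)) (r : R) : dh n R i (C r) = scal n R (X i) r := by
  rw [dh, ZetaLib.dehom_of_mem _ _ (C_mem r)]
  refine val_injective _ ?_
  simp [scal, fromZeroRingHom]
  all_goals rfl

theorem chart_toSpec (f : MvPolynomial (Fin (n + 1)) R) {d : ℕ} (hf : f ∈ CohB1.polyGrading n R d)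
    (hd : 0 < d) :
    Proj.awayι (CohB1.polyGrading n R) f hf hd ≫ str n R =
      Spec.map (CommRingCat.ofHom (scal n R f)) := by
  rw [Proj.awayι_toSpecZero_assoc, ← Spec.map_comp]
  rfl

/-- Evaluation on a homogeneous localisation. -/
def away (ev : MvPolynomial (Fin (n + 1)) R →+* B) (f : MvPolynomial (Fin (n + 1)) R)
    (h : IsUnit (ev f)) : Away (CohB1.polyGrading n R) f →+* B :=
  (IsLocalization.Away.lift (S := Localization.Away f) f h).comp (algebraMap _ (Localization.Away f))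

theorem away_mk (ev : MvPolynomial (Fin (n + 1)) R →+* B) (f : MvPolynomial (Fin (n + 1)) R)
    (h : IsUnit (ev f)) {d : ℕ} (hf : f ∈ CohB1.polyGrading n R d) (k : ℕ)
    (a : MvPolynomial (Fin (n + 1)) R) (ha : a ∈ CohB1.polyGrading n R (k • d)) :
    away ev f h (Away.mk _ hf k a ha) * ev f ^ k = ev a := by
  rw [away, RingHom.comp_apply, HomogeneousLocalization.algebraMap_apply, Away.val_mk,
    Localization.mk_eq_mk', ← map_pow,
    ← IsLocalization.Away.lift_eq (S := Localization.Away f) f h (f ^ k), ← map_mul,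
    IsLocalization.mk'_spec, IsLocalization.Away.lift_eq]

theorem away_scal (ev : MvPolynomial (Fin (n + 1)) R →+* B) (f : MvPolynomial (Fin (n + 1)) R)
    (h : IsUnit (ev f)) {d : ℕ} (hf : f ∈ CohB1.polyGrading n R d) :
    (away ev f h).comp (scal n R f) = ev.comp C := by
  ext r
  have h1 : scal n R f r = Away.mk _ hf 0 (C r) (by simpa using C_mem r) := by
    refine val_injective _ ?_
    simp [scal, fromZeroRingHom]
    all_goals rfl
  rw [RingHom.comp_apply, h1]
  simpa using away_mk ev f h hf 0 (C r) (by simpa using C_mem r)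

theorem away_dh (ev : MvPolynomial (Fin (n + 1)) R →+* B) (i : Fin (n + 1)) (h : IsUnit (ev (X i)))
    (hi : ev (X i) = 1) : (away ev (X i) h).comp (dh n R i) = ev := by
  refine MvPolynomial.ringHom_ext (fun r => ?_) fun j => ?_
  · rw [RingHom.comp_apply, dh_C]
    exact RingHom.congr_fun (away_scal ev (X i) h (X_mem i)) r
  · rw [RingHom.comp_apply, dh, ZetaLib.dehom_of_mem _ _ (X_mem j)]
    simpa [hi] using away_mk ev (X i) h (X_mem i) 1 (X j) (by simpa using X_mem j)

theorem away_comp_awayMap (ev : MvPolynomial (Fin (n + 1)) R →+* B)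
    {f g x : MvPolynomial (Fin (n + 1)) R} {d e : ℕ} (hf : f ∈ CohB1.polyGrading n R d)
    (hg : g ∈ CohB1.polyGrading n R e) (hx : x = f * g) (h : IsUnit (ev f)) (h' : IsUnit (ev x)) :
    (away ev x h').comp (awayMap (CohB1.polyGrading n R) hg hx) = away ev f h := by
  ext y
  obtain ⟨k, a, ha, rfl⟩ := Away.mk_surjective (CohB1.polyGrading n R) hf y
  rw [RingHom.comp_apply, awayMap_mk]
  subst hx
  have hm := SetLike.mul_mem_graded hf hg
  have ha' : a * g ^ k ∈ CohB1.polyGrading n R (k • (d + e)) := by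
    rw [smul_add]; exact SetLike.mul_mem_graded ha (SetLike.pow_mem_graded k hg)
  apply ((h'.pow k).mul_left_inj).1
  rw [away_mk ev (f * g) h' hm k (a * g ^ k) ha', map_mul ev f g, mul_pow, ← mul_assoc,
    away_mk ev f h hf k a ha, map_mul, map_pow]

theorem away_scale (ρ : R →+* B) (v : Fin (n + 1) → B) (c : B) (hc : IsUnit c)
    {f : MvPolynomial (Fin (n + 1)) R} {d : ℕ} (hf : f ∈ CohB1.polyGrading n R d)
    (h : IsUnit (eval₂Hom ρ v f)) (h' : IsUnit (eval₂Hom ρ (fun i => c * v i) f)) :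
    away (eval₂Hom ρ (fun i => c * v i)) f h' = away (eval₂Hom ρ v) f h := by
  ext y
  obtain ⟨k, a, ha, rfl⟩ := Away.mk_surjective (CohB1.polyGrading n R) hf y
  apply ((h'.pow k).mul_left_inj).1
  rw [away_mk _ f h' hf k a ha]
  have e1 : eval₂Hom ρ (fun i => c * v i) f = c ^ d * eval₂Hom ρ v f :=
    eval₂_smul_of_isHomogeneous ρ v c ((mem_homogeneousSubmodule _ _).1 hf)
  have e2 : eval₂Hom ρ (fun i => c * v i) a = c ^ (k • d) * eval₂Hom ρ v a :=
    eval₂_smul_of_isHomogeneous ρ v c ((mem_homogeneousSubmodule _ _).1 ha)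
  rw [e1, e2, smul_eq_mul, mul_comm k d, pow_mul, mul_pow]
  linear_combination -(c ^ d) ^ k * away_mk (eval₂Hom ρ v) f h hf k a ha

section Scheme

variable {T : Scheme.{u}}

/-- The point with coordinates `ev` in the chart `D₊(f)`. -/
def pt (ev : MvPolynomial (Fin (n + 1)) R →+* Γ(T, ⊤)) (f : MvPolynomial (Fin (n + 1)) R) {d : ℕ}
    (hf : f ∈ CohB1.polyGrading n R d) (hd : 0 < d) (h : IsUnit (ev f)) :
    T ⟶ Pr n R :=
  T.toSpecΓ ≫ Spec.map (CommRingCat.ofHom (away ev f h)) ≫
    Proj.awayι (CohB1.polyGrading n R) f hf hd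

theorem pt_congr {ev ev' : MvPolynomial (Fin (n + 1)) R →+* Γ(T, ⊤)}
    {f f' : MvPolynomial (Fin (n + 1)) R} {d d' : ℕ} (hev : ev = ev') (hff : f = f') (hdd : d = d')
    (hf : f ∈ CohB1.polyGrading n R d) (hd : 0 < d) (h : IsUnit (ev f))
    (hf' : f' ∈ CohB1.polyGrading n R d') (hd' : 0 < d') (h' : IsUnit (ev' f')) :
    pt ev f hf hd h = pt ev' f' hf' hd' h' := by
  subst hev hff hdd
  rfl

theorem pt_mul (ev : MvPolynomial (Fin (n + 1)) R →+* Γ(T, ⊤))
    {f g : MvPolynomial (Fin (n + 1)) R} {d e : ℕ} (hf : f ∈ CohB1.polyGrading n R d) (hd : 0 < d)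
    (hg : g ∈ CohB1.polyGrading n R e) (h : IsUnit (ev f)) (h' : IsUnit (ev (f * g))) :
    pt ev (f * g) (SetLike.mul_mem_graded hf hg) (hd.trans_le (Nat.le_add_right d e)) h' =
      pt ev f hf hd h := by
  rw [pt, pt, ← Proj.SpecMap_awayMap_awayι (CohB1.polyGrading n R) hf hd hg rfl,
    ← Spec.map_comp_assoc, ← CommRingCat.ofHom_comp, away_comp_awayMap ev hf hg rfl h h']

theorem pt_eq_of_isUnit (ev : MvPolynomial (Fin (n + 1)) R →+* Γ(T, ⊤))
    {f g : MvPolynomial (Fin (n + 1)) R} {d e : ℕ} (hf : f ∈ CohB1.polyGrading n R d) (hd : 0 < d)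
    (hg : g ∈ CohB1.polyGrading n R e) (he : 0 < e) (h : IsUnit (ev f)) (h' : IsUnit (ev g)) :
    pt ev f hf hd h = pt ev g hg he h' := by
  rw [← pt_mul ev hf hd hg h (by rw [map_mul]; exact h.mul h'),
    ← pt_mul ev hg he hf h' (by rw [map_mul]; exact h'.mul h)]
  exact pt_congr rfl (mul_comm f g) (add_comm d e) _ _ _ _ _ _

theorem pt_scale (ρ : R →+* Γ(T, ⊤)) (v : Fin (n + 1) → Γ(T, ⊤)) (c : Γ(T, ⊤)) (hc : IsUnit c)
    {f : MvPolynomial (Fin (n + 1)) R} {d : ℕ} (hf : f ∈ CohB1.polyGrading n R d) (hd : 0 < d)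
    (h : IsUnit (eval₂Hom ρ v f)) (h' : IsUnit (eval₂Hom ρ (fun i => c * v i) f)) :
    pt (eval₂Hom ρ (fun i => c * v i)) f hf hd h' = pt (eval₂Hom ρ v) f hf hd h := by
  rw [pt, pt, away_scale ρ v c hc hf h h']

theorem comp_pt {T' : Scheme.{u}} (g : T' ⟶ T) (ev : MvPolynomial (Fin (n + 1)) R →+* Γ(T, ⊤))
    {f : MvPolynomial (Fin (n + 1)) R} {d : ℕ} (hf : f ∈ CohB1.polyGrading n R d) (hd : 0 < d)
    (h : IsUnit (ev f)) :
    g ≫ pt ev f hf hd h = pt (g.appTop.hom.comp ev) f hf hd (h.map g.appTop.hom) := by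
  rw [pt, pt, Scheme.toSpecΓ_naturality_assoc, ← Spec.map_comp_assoc]
  congr 3
  apply CommRingCat.hom_ext
  refine RingHom.ext fun y => ?_
  obtain ⟨k, a, ha, rfl⟩ := Away.mk_surjective (CohB1.polyGrading n R) hf y
  apply (((h.map g.appTop.hom).pow k).mul_left_inj).1
  simp only [CommRingCat.hom_comp, CommRingCat.hom_ofHom, RingHom.comp_apply]
  rw [← map_pow, ← map_mul, away_mk ev f h hf k a ha, map_pow]
  exact (away_mk (g.appTop.hom.comp ev) f (h.map g.appTop.hom) hf k a ha).symm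

theorem pt_toSpec (ev : MvPolynomial (Fin (n + 1)) R →+* Γ(T, ⊤))
    {f : MvPolynomial (Fin (n + 1)) R} {d : ℕ} (hf : f ∈ CohB1.polyGrading n R d) (hd : 0 < d)
    (h : IsUnit (ev f)) :
    pt ev f hf hd h ≫ str n R =
      T.toSpecΓ ≫ Spec.map (CommRingCat.ofHom (ev.comp C)) := by
  rw [pt, Category.assoc, Category.assoc, chart_toSpec, ← Spec.map_comp, ← CommRingCat.ofHom_comp,
    away_scal ev f h hf]

theorem pt_preimage_basicOpen (ev : MvPolynomial (Fin (n + 1)) R →+* Γ(T, ⊤))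
    {f g : MvPolynomial (Fin (n + 1)) R} (hf : f ∈ CohB1.polyGrading n R 1)
    (hg : g ∈ CohB1.polyGrading n R 1) (h : IsUnit (ev f)) :
    pt ev f hf one_pos h ⁻¹ᵁ Proj.basicOpen (CohB1.polyGrading n R) g = T.basicOpen (ev g) := by
  rw [pt, Scheme.Hom.comp_preimage, Scheme.Hom.comp_preimage,
    Proj.awayι_preimage_basicOpen (CohB1.polyGrading n R) hf one_pos hg one_pos]
  show T.toSpecΓ ⁻¹ᵁ PrimeSpectrum.basicOpen (away ev f h (Away.isLocalizationElem hf hg)) = _
  rw [Scheme.toSpecΓ_preimage_basicOpen]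
  have he := away_mk ev f h hf 1 (g ^ 1) (by simpa using hg)
  rw [pow_one (ev f), map_pow, pow_one (ev g)] at he
  conv_rhs => rw [← he, Scheme.basicOpen_mul, Scheme.basicOpen_of_isUnit T h, inf_top_eq]

/-- Coordinates of a `T`-point of a chart. -/
def coords (i : Fin (n + 1)) (a : T ⟶ Spec (.of <| Away (CohB1.polyGrading n R) (X i))) :
    MvPolynomial (Fin (n + 1)) R →+* Γ(T, ⊤) :=
  (specHom a).comp (dh n R i)

theorem coords_self (i : Fin (n + 1)) (a : T ⟶ Spec (.of <| Away (CohB1.polyGrading n R) (X i))) :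
    coords i a (X i) = 1 := by
  have h : dh n R i (X i) = 1 := by
    rw [dh, ZetaLib.dehom_of_mem _ _ (X_mem i)]
    refine val_injective _ ?_
    simp [Localization.mk_self
      ⟨(X i : MvPolynomial (Fin (n + 1)) R), Submonoid.mem_powers _⟩]
  rw [coords, RingHom.comp_apply, h, map_one]

theorem comp_chart_eq_pt (i : Fin (n + 1))
    (a : T ⟶ Spec (.of <| Away (CohB1.polyGrading n R) (X i))) :
    a ≫ chart n R i = pt (coords i a) (X i) (X_mem i) one_pos (by rw [coords_self]; exact isUnit_one) := by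
  rw [pt]
  have hu : IsUnit (coords i a (X i)) := by rw [coords_self]; exact isUnit_one
  have h : away (coords i a) (X i) hu = specHom a := by
    refine RingHom.ext fun y => ?_
    obtain ⟨z, rfl⟩ := ZetaLib.dehom_surjective (CohB1.polyGrading n R) (X_mem i) y
    exact RingHom.congr_fun (away_dh (coords i a) i hu (coords_self i a)) z
  conv_lhs => rw [← toSpecΓ_specHom a, Category.assoc]
  rw [h]

theorem dh_mul_dh (i k j : Fin (n + 1)) :
    awayMap (CohB1.polyGrading n R) (X_mem i) (mul_comm (X i) (X k)) (dh n R k (X j)) *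
        awayMap (CohB1.polyGrading n R) (X_mem k) rfl (dh n R i (X k)) =
      awayMap (CohB1.polyGrading n R) (X_mem k) (rfl : X i * X k = _) (dh n R i (X j)) := by
  simp only [dh, ZetaLib.dehom_of_mem _ _ (X_mem _), awayMap_mk]
  refine val_injective _ ?_
  simp only [val_mul, Away.val_mk, Localization.mk_mul]
  rw [Localization.mk_eq_mk_iff, Localization.r_iff_exists]
  exact ⟨1, by simp only [pow_one, Submonoid.coe_mul, OneMemClass.coe_one, one_mul]; ring⟩

/-- Two coordinate systems of the same point differ by a scalar. -/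
theorem exists_scale (i k : Fin (n + 1))
    (a : T ⟶ Spec (.of <| Away (CohB1.polyGrading n R) (X i)))
    (b : T ⟶ Spec (.of <| Away (CohB1.polyGrading n R) (X k)))
    (hab : a ≫ chart n R i = b ≫ chart n R k) :
    (coords i a).comp C = (coords k b).comp C ∧
      ∃ c : Γ(T, ⊤), IsUnit c ∧ ∀ j, coords k b (X j) = c * coords i a (X j) := by
  refine ⟨?_, ?_⟩
  · have h := congrArg (· ≫ str n R) hab
    simp only [comp_chart_eq_pt, pt_toSpec] at h
    exact toSpecΓ_SpecMap_injective (C := CommRingCat.of R) h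
  let e := Proj.pullbackAwayιIso (CohB1.polyGrading n R) (X_mem i) one_pos (X_mem k) one_pos
    (rfl : (X i : MvPolynomial (Fin (n + 1)) R) * X k = _)
  set γ := pullback.lift a b hab ≫ e.hom
  have h1 : γ ≫ Spec.map (CommRingCat.ofHom (awayMap (CohB1.polyGrading n R) (X_mem k) rfl)) = a := by
    simp [γ, e]
    exact pullback.lift_fst _ _ _
  have h2 : γ ≫ Spec.map (CommRingCat.ofHom
      (awayMap (CohB1.polyGrading n R) (X_mem i) (mul_comm (X i) (X k)))) = b := by
    simp [γ, e]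
    exact pullback.lift_snd _ _ _
  have ha : specHom a = (specHom γ).comp (awayMap (CohB1.polyGrading n R) (X_mem k) rfl) := by
    apply toSpecΓ_SpecMap_injective
    rw [toSpecΓ_specHom, CommRingCat.ofHom_comp, Spec.map_comp, ← Category.assoc, toSpecΓ_specHom, h1]
  have hb : specHom b = (specHom γ).comp
      (awayMap (CohB1.polyGrading n R) (X_mem i) (mul_comm (X i) (X k))) := by
    apply toSpecΓ_SpecMap_injective
    rw [toSpecΓ_specHom, CommRingCat.ofHom_comp, Spec.map_comp, ← Category.assoc, toSpecΓ_specHom, h2]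
  have key : ∀ j, coords k b (X j) * coords i a (X k) = coords i a (X j) := fun j => by
    simp only [coords, RingHom.comp_apply, ha, hb, ← map_mul, dh_mul_dh]
  have hki : coords k b (X i) * coords i a (X k) = 1 := by rw [key, coords_self]
  refine ⟨coords k b (X i), IsUnit.of_mul_eq_one _ hki, fun j => ?_⟩
  linear_combination coords k b (X i) * key j - coords k b (X j) * hki

end Scheme

end

end Groth.Agent.Chow
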