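import Groth.Agent.Chow.Segre
import Groth.Agent.ProjProper.Basic

/-!
Projective space over a base scheme: Segre, products of finitely many projective spaces,
immersions of affines into a chart, a section avoiding the chart.
-/

universe u

open CategoryTheory CategoryTheory.Limits AlgebraicGeometry MvPolynomial

namespace Groth.Agent.Chow

noncomputable section

variable (S : Scheme.{u})

/-- The terminal map. -/
abbrev term : S ⟶ Spec (CommRingCat.of (ULift.{u} ℤ)) := specULiftZIsTerminal.from S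

/-- The projection of `P^n_S` to `P^n_ℤ`. -/
abbrev toZ (n : ℕ) : CohB1.ProjSpaceOver n S ⟶ Pr n (ULift.{u} ℤ) :=
  pullback.fst (str n (ULift.{u} ℤ)) (term S)

/-- Lift to `P^n_S`. -/
abbrev mkPt {n : ℕ} {T : Scheme.{u}} (a : T ⟶ Pr n (ULift.{u} ℤ)) (b : T ⟶ S) :
    T ⟶ CohB1.ProjSpaceOver n S :=
  pullback.lift (f := str n (ULift.{u} ℤ)) (g := term S) a b (specULiftZIsTerminal.hom_ext _ _)

@[reassoc (attr := simp)]
theorem mkPt_toBase {n : ℕ} {T : Scheme.{u}} (a : T ⟶ Pr n (ULift.{u} ℤ)) (b : T ⟶ S) :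
    mkPt S a b ≫ CohB1.ProjSpaceOver.toBase n S = b :=
  pullback.lift_snd _ _ _

@[reassoc (attr := simp)]
theorem mkPt_toZ {n : ℕ} {T : Scheme.{u}} (a : T ⟶ Pr n (ULift.{u} ℤ)) (b : T ⟶ S) :
    mkPt S a b ≫ toZ S n = a :=
  pullback.lift_fst _ _ _

theorem pso_hom_ext {n : ℕ} {T : Scheme.{u}} (a b : T ⟶ CohB1.ProjSpaceOver n S)
    (h₁ : a ≫ toZ S n = b ≫ toZ S n)
    (h₂ : a ≫ CohB1.ProjSpaceOver.toBase n S = b ≫ CohB1.ProjSpaceOver.toBase n S) : a = b :=
  pullback.hom_ext (f := str n (ULift.{u} ℤ)) (g := term S) h₁ h₂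

theorem isStableUnderComposition_closed :
    MorphismProperty.IsStableUnderComposition (@IsClosedImmersion.{u}) :=
  ⟨fun f g (_ : IsClosedImmersion f) (_ : IsClosedImmersion g) => IsClosedImmersion.comp f g⟩

attribute [local instance] isStableUnderComposition_closed

variable (n m : ℕ)

/-- The structure map of `P^n × P^m` over `ℤ`. -/
abbrev prodStr : Prod n m (ULift.{u} ℤ) ⟶ Spec (CommRingCat.of (ULift.{u} ℤ)) :=
  pullback.fst (str n _) (str m _) ≫ str n _

/-- Comparison map. -/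
def toProd : pullback (CohB1.ProjSpaceOver.toBase n S) (CohB1.ProjSpaceOver.toBase m S) ⟶
    pullback (prodStr.{u} n m) (term S) :=
  pullback.lift (f := prodStr.{u} n m) (g := term S)
    (pullback.lift (f := str n (ULift.{u} ℤ)) (g := str m (ULift.{u} ℤ))
      (pullback.fst (CohB1.ProjSpaceOver.toBase n S) (CohB1.ProjSpaceOver.toBase m S) ≫ toZ S n)
      (pullback.snd (CohB1.ProjSpaceOver.toBase n S) (CohB1.ProjSpaceOver.toBase m S) ≫ toZ S m)
      (specULiftZIsTerminal.hom_ext _ _))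
    (pullback.fst (CohB1.ProjSpaceOver.toBase n S) (CohB1.ProjSpaceOver.toBase m S) ≫
      CohB1.ProjSpaceOver.toBase n S)
    (specULiftZIsTerminal.hom_ext _ _)

/-- Inverse of the comparison map. -/
def ofProd : pullback (prodStr.{u} n m) (term S) ⟶
    pullback (CohB1.ProjSpaceOver.toBase n S) (CohB1.ProjSpaceOver.toBase m S) :=
  pullback.lift (f := CohB1.ProjSpaceOver.toBase n S) (g := CohB1.ProjSpaceOver.toBase m S)
    (mkPt S (pullback.fst (prodStr.{u} n m) (term S) ≫ pullback.fst _ _) (pullback.snd (prodStr.{u} n m) (term S)))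
    (mkPt S (pullback.fst (prodStr.{u} n m) (term S) ≫ pullback.snd _ _) (pullback.snd (prodStr.{u} n m) (term S)))
    ((mkPt_toBase _ _ _).trans (mkPt_toBase _ _ _).symm)

theorem toProd_fst_fst : toProd S n m ≫ pullback.fst _ _ ≫ pullback.fst _ _ =
    pullback.fst (CohB1.ProjSpaceOver.toBase n S) (CohB1.ProjSpaceOver.toBase m S) ≫ toZ S n := by
  rw [toProd]; erw [pullback.lift_fst_assoc, pullback.lift_fst]

theorem toProd_fst_snd : toProd S n m ≫ pullback.fst _ _ ≫ pullback.snd _ _ =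
    pullback.snd (CohB1.ProjSpaceOver.toBase n S) (CohB1.ProjSpaceOver.toBase m S) ≫ toZ S m := by
  rw [toProd]; erw [pullback.lift_fst_assoc, pullback.lift_snd]

theorem toProd_snd : toProd S n m ≫ pullback.snd _ _ =
    pullback.fst (CohB1.ProjSpaceOver.toBase n S) (CohB1.ProjSpaceOver.toBase m S) ≫
      CohB1.ProjSpaceOver.toBase n S :=
  pullback.lift_snd _ _ _

theorem ofProd_fst : ofProd S n m ≫ pullback.fst _ _ =
    mkPt S (pullback.fst (prodStr.{u} n m) (term S) ≫ pullback.fst _ _) (pullback.snd (prodStr.{u} n m) (term S)) :=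
  pullback.lift_fst _ _ _

theorem ofProd_snd : ofProd S n m ≫ pullback.snd _ _ =
    mkPt S (pullback.fst (prodStr.{u} n m) (term S) ≫ pullback.snd _ _) (pullback.snd (prodStr.{u} n m) (term S)) :=
  pullback.lift_snd _ _ _

/-- The comparison isomorphism. -/
def prodIso : pullback (CohB1.ProjSpaceOver.toBase n S) (CohB1.ProjSpaceOver.toBase m S) ≅
    pullback (prodStr.{u} n m) (term S) where
  hom := toProd S n m
  inv := ofProd S n m
  hom_inv_id := by
    apply pullback.hom_ext
    · rw [Category.assoc, Category.id_comp, ofProd_fst]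
      apply pso_hom_ext
      · rw [Category.assoc, mkPt_toZ, toProd_fst_fst]
      · rw [Category.assoc, mkPt_toBase, toProd_snd]
    · rw [Category.assoc, Category.id_comp, ofProd_snd]
      apply pso_hom_ext
      · rw [Category.assoc, mkPt_toZ, toProd_fst_snd]
      · rw [Category.assoc, mkPt_toBase, toProd_snd, pullback.condition]
  inv_hom_id := by
    apply pullback.hom_ext
    · apply pullback.hom_ext
      · rw [Category.id_comp, Category.assoc, Category.assoc, toProd_fst_fst, ← Category.assoc,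
          ofProd_fst, mkPt_toZ]
      · rw [Category.id_comp, Category.assoc, Category.assoc, toProd_fst_snd, ← Category.assoc,
          ofProd_snd, mkPt_toZ]
    · rw [Category.id_comp, Category.assoc, toProd_snd, ← Category.assoc, ofProd_fst, mkPt_toBase]

/-- The base change of the Segre map. -/
def segreS : pullback (prodStr.{u} n m) (term S) ⟶ CohB1.ProjSpaceOver (n * m + n + m) S :=
  mkPt S (pullback.fst (prodStr.{u} n m) (term S) ≫ segre n m (ULift.{u} ℤ))
    (pullback.snd (prodStr.{u} n m) (term S))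

theorem isClosedImmersion_segreS : IsClosedImmersion (segreS S n m) := by
  have hψ := MorphismProperty.pullbackMap (P := @IsClosedImmersion)
    (f := prodStr.{u} n m) (g := term S) (f' := str (n * m + n + m) (ULift.{u} ℤ)) (g' := term S)
    (i₁ := segre n m (ULift.{u} ℤ)) (i₂ := 𝟙 S) inferInstance inferInstance
    (specULiftZIsTerminal.hom_ext _ _) (Category.id_comp _).symm
  exact hψ

variable {n m}

/-- The Segre embedding over a base. -/
theorem exists_segre (n m : ℕ) :
    ∃ φ : pullback (CohB1.ProjSpaceOver.toBase n S) (CohB1.ProjSpaceOver.toBase m S) ⟶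
        CohB1.ProjSpaceOver (n * m + n + m) S,
      IsClosedImmersion φ ∧ φ ≫ CohB1.ProjSpaceOver.toBase (n * m + n + m) S =
        pullback.fst (CohB1.ProjSpaceOver.toBase n S) (CohB1.ProjSpaceOver.toBase m S) ≫
          CohB1.ProjSpaceOver.toBase n S := by
  refine ⟨(prodIso S n m).hom ≫ segreS S n m, ?_, ?_⟩
  · have := isClosedImmersion_segreS S n m
    exact IsClosedImmersion.comp _ _
  · rw [Category.assoc, segreS, mkPt_toBase]
    exact toProd_snd S n m

/-- A finite product of projective spaces over `S`, with a closed immersion into one. -/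
theorem exists_prodProj : ∀ (k : ℕ) (d : Fin k → ℕ),
    ∃ (N : ℕ) (P : Scheme.{u}) (c : P ⟶ CohB1.ProjSpaceOver N S)
      (pr : ∀ i, P ⟶ CohB1.ProjSpaceOver (d i) S),
      IsClosedImmersion c ∧
      (∀ i, pr i ≫ CohB1.ProjSpaceOver.toBase (d i) S = c ≫ CohB1.ProjSpaceOver.toBase N S) ∧
      ∀ (T : Scheme.{u}) (g : T ⟶ S) (h : ∀ i, T ⟶ CohB1.ProjSpaceOver (d i) S),
        (∀ i, h i ≫ CohB1.ProjSpaceOver.toBase (d i) S = g) →
          ∃ l : T ⟶ P, l ≫ c ≫ CohB1.ProjSpaceOver.toBase N S = g ∧ ∀ i, l ≫ pr i = h i := by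
  intro k
  induction k with
  | zero =>
    intro d
    let ev : MvPolynomial (Fin (1 + 1)) (ULift.{u} ℤ) →+* Γ(S, ⊤) :=
      eval₂Hom ((specHom (term S)) : (ULift.{u} ℤ) →+* _) (fun _ => 1)
    have hu : IsUnit (ev (X 0)) := by simp [ev]
    set s := mkPt S (pt ev (X 0) (X_mem 0) one_pos hu) (𝟙 S)
    have := ProjProper.Basic.isProper_toBase 1 S
    have hs : IsClosedImmersion s := by
      have h1 : s ≫ CohB1.ProjSpaceOver.toBase 1 S = 𝟙 S := mkPt_toBase S _ _
      have : IsClosedImmersion (s ≫ CohB1.ProjSpaceOver.toBase 1 S) := by rw [h1]; infer_instance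
      exact IsClosedImmersion.of_comp s (CohB1.ProjSpaceOver.toBase 1 S)
    refine ⟨1, S, s, fun i => i.elim0, hs, fun i => i.elim0, fun T g h _ => ⟨g, ?_, fun i => i.elim0⟩⟩
    rw [mkPt_toBase, Category.comp_id]
  | succ k ih =>
    intro d
    obtain ⟨N, P, c, pr, hc, hpr, hl⟩ := ih (fun i => d i.succ)
    obtain ⟨φ, hφ, hφb⟩ := exists_segre S (d 0) N
    let i2 : pullback (CohB1.ProjSpaceOver.toBase (d 0) S) (c ≫ CohB1.ProjSpaceOver.toBase N S) ⟶ pullback (CohB1.ProjSpaceOver.toBase (d 0) S) (CohB1.ProjSpaceOver.toBase N S) :=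
      pullback.map (CohB1.ProjSpaceOver.toBase (d 0) S) (c ≫ CohB1.ProjSpaceOver.toBase N S) (CohB1.ProjSpaceOver.toBase (d 0) S) (CohB1.ProjSpaceOver.toBase N S) (𝟙 _) c (𝟙 _) (by simp) (by simp)
    have hi2 : IsClosedImmersion i2 :=
      MorphismProperty.pullbackMap (P := @IsClosedImmersion)
        (inferInstance : IsClosedImmersion (𝟙 _)) hc (Category.id_comp _).symm rfl
    refine ⟨d 0 * N + d 0 + N, pullback (CohB1.ProjSpaceOver.toBase (d 0) S) (c ≫ CohB1.ProjSpaceOver.toBase N S), i2 ≫ φ,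
      Fin.cases (pullback.fst (CohB1.ProjSpaceOver.toBase (d 0) S) (c ≫ CohB1.ProjSpaceOver.toBase N S)) (fun i => pullback.snd (CohB1.ProjSpaceOver.toBase (d 0) S) (c ≫ CohB1.ProjSpaceOver.toBase N S) ≫ pr i),
      IsClosedImmersion.comp _ _, ?_, ?_⟩
    · intro i
      have hb : (i2 ≫ φ) ≫ CohB1.ProjSpaceOver.toBase (d 0 * N + d 0 + N) S =
          pullback.fst (CohB1.ProjSpaceOver.toBase (d 0) S) (c ≫ CohB1.ProjSpaceOver.toBase N S) ≫ (CohB1.ProjSpaceOver.toBase (d 0) S) := by
        rw [Category.assoc, hφb, ← Category.assoc]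
        congr 1
        exact (pullback.lift_fst _ _ _).trans (Category.comp_id _)
      rw [hb]
      induction i using Fin.cases with
      | zero => rfl
      | succ i =>
        simp only [Fin.cases_succ, Category.assoc]
        rw [hpr i]
        exact pullback.condition.symm
    · intro T g h hh
      obtain ⟨l, hlg, hlh⟩ := hl T g (fun i => h i.succ) (fun i => hh i.succ)
      refine ⟨pullback.lift (h 0) l ((hh 0).trans hlg.symm), ?_, ?_⟩
      · rw [Category.assoc, hφb, ← Category.assoc i2]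
        erw [pullback.lift_fst]
        rw [Category.comp_id, ← Category.assoc, pullback.lift_fst]
        exact hh 0
      · intro i
        induction i using Fin.cases with
        | zero => exact pullback.lift_fst _ _ _
        | succ i =>
          simp only [Fin.cases_succ]
          rw [← Category.assoc, pullback.lift_snd]
          exact hlh i

/-- A section of `P^n_S` outside the chart `D₊(X 0)`. -/
theorem exists_section_avoiding (n : ℕ) :
    ∃ s : S ⟶ CohB1.ProjSpaceOver (n + 1) S,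
      s ≫ CohB1.ProjSpaceOver.toBase (n + 1) S = 𝟙 S ∧
      ∀ x, s x ∉ toZ S (n + 1) ⁻¹ᵁ Proj.basicOpen (CohB1.polyGrading (n + 1) (ULift.{u} ℤ)) (X 0) := by
  classical
  let ev : MvPolynomial (Fin (n + 1 + 1)) (ULift.{u} ℤ) →+* Γ(S, ⊤) :=
    eval₂Hom ((specHom (term S)) : (ULift.{u} ℤ) →+* _) (fun i => if i = 1 then 1 else 0)
  have hu : IsUnit (ev (X 1)) := by simp [ev]
  refine ⟨mkPt S (pt ev (X 1) (X_mem 1) one_pos hu) (𝟙 S), mkPt_toBase S _ _, fun x hx => ?_⟩
  have h1 : x ∈ pt ev (X 1) (X_mem 1) one_pos hu ⁻¹ᵁ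
      Proj.basicOpen (CohB1.polyGrading (n + 1) (ULift.{u} ℤ)) (X 0) := by
    rw [← mkPt_toZ S (pt ev (X 1) (X_mem 1) one_pos hu) (𝟙 S)]
    exact hx
  rw [pt_preimage_basicOpen ev (X_mem 1) (X_mem 0) hu] at h1
  simp [ev] at h1

/-- An affine scheme of finite type over an affine open of `S` is locally closed in a chart. -/
theorem exists_affine_chart {U : Scheme.{u}} [IsAffine U] {V : S.Opens} (hV : IsAffineOpen V)
    (g : U ⟶ V.toScheme) [LocallyOfFiniteType g] :
    ∃ (n : ℕ) (Ω : (CohB1.ProjSpaceOver (n + 1) S).Opens) (j : U ⟶ Ω.toScheme),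
      Ω ≤ toZ S (n + 1) ⁻¹ᵁ Proj.basicOpen (CohB1.polyGrading (n + 1) (ULift.{u} ℤ)) (X 0) ∧
      IsClosedImmersion j ∧ j ≫ Ω.ι ≫ CohB1.ProjSpaceOver.toBase (n + 1) S = g ≫ V.ι := by
  classical
  have : IsAffine V.toScheme := hV
  have hft : g.appTop.hom.FiniteType :=
    (HasRingHomProperty.iff_of_isAffine (P := @LocallyOfFiniteType)).1 inferInstance
  obtain ⟨n, v, hv⟩ : ∃ (n : ℕ) (v : Fin n → Γ(U, ⊤)),
      ∀ z, z ∈ Subring.closure (Set.range g.appTop.hom ∪ Set.range v) := by
    let := g.appTop.hom.toAlgebra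
    obtain ⟨s, hs⟩ := (hft : Algebra.FiniteType Γ(V.toScheme, ⊤) Γ(U, ⊤)).out
    refine ⟨s.card, fun i => s.equivFin.symm i, fun z => ?_⟩
    have hz : z ∈ Algebra.adjoin Γ(V.toScheme, ⊤) (s : Set Γ(U, ⊤)) := hs ▸ Algebra.mem_top
    have hz : z ∈ (Algebra.adjoin Γ(V.toScheme, ⊤) (s : Set Γ(U, ⊤))).toSubring := hz
    rw [Algebra.adjoin_eq_ring_closure] at hz
    refine Subring.closure_mono (Set.union_subset_union le_rfl fun x hx => ?_) hz
    exact ⟨s.equivFin ⟨x, hx⟩, by simp⟩
  let ev : MvPolynomial (Fin (n + 1 + 1)) (ULift.{u} ℤ) →+* Γ(U, ⊤) :=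
    eval₂Hom ((specHom (term U)) : (ULift.{u} ℤ) →+* _) (Fin.cases 1 (Fin.cases 0 v))
  have hu : IsUnit (ev (X 0)) := by simp [ev]
  set W := Spec (.of <| HomogeneousLocalization.Away (CohB1.polyGrading (n + 1) (ULift.{u} ℤ))
    (X (0 : Fin (n + 1 + 1))))
  set wc := chart (n + 1) (ULift.{u} ℤ) 0 ≫ str (n + 1) (ULift.{u} ℤ)
  set κ : pullback wc (term V.toScheme) ⟶ CohB1.ProjSpaceOver (n + 1) S :=
    pullback.map wc (term V.toScheme) (str (n + 1) (ULift.{u} ℤ)) (term S)
      (chart (n + 1) (ULift.{u} ℤ) 0) V.ι (𝟙 _) (Category.comp_id _)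
      (specULiftZIsTerminal.hom_ext _ _)
  have hκ : IsOpenImmersion κ :=
    MorphismProperty.pullbackMap (P := @IsOpenImmersion) inferInstance inferInstance rfl
      (specULiftZIsTerminal.hom_ext _ _)
  set a : U ⟶ W := U.toSpecΓ ≫ Spec.map (CommRingCat.ofHom (away ev (X 0) hu))
  set j₀ : U ⟶ pullback wc (term V.toScheme) :=
    pullback.lift a g (specULiftZIsTerminal.hom_ext _ _)
  have hj₀ : IsClosedImmersion j₀ := by
    refine IsClosedImmersion.of_surjective_of_isAffine j₀ fun z => ?_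
    suffices h : z ∈ j₀.appTop.hom.range from h
    refine (Subring.closure_le.2 ?_) (hv z)
    rintro _ (⟨w, rfl⟩ | ⟨i, rfl⟩)
    · refine ⟨(pullback.snd wc (term V.toScheme)).appTop w, ?_⟩
      rw [← CommRingCat.comp_apply, ← Scheme.Hom.comp_appTop, pullback.lift_snd]
    · refine ⟨(pullback.fst wc (term V.toScheme)).appTop
        ((Scheme.ΓSpecIso (.of <| HomogeneousLocalization.Away
          (CohB1.polyGrading (n + 1) (ULift.{u} ℤ)) (X (0 : Fin (n + 1 + 1))))).inv
          (dh (n + 1) (ULift.{u} ℤ) 0 (X i.succ.succ))), ?_⟩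
      rw [← CommRingCat.comp_apply, ← Scheme.Hom.comp_appTop, pullback.lift_fst]
      have h1 : specHom a = away ev (X 0) hu :=
        specHom_toSpecΓ (C := .of <| HomogeneousLocalization.Away
          (CohB1.polyGrading (n + 1) (ULift.{u} ℤ)) (X (0 : Fin (n + 1 + 1)))) _
      refine (RingHom.congr_fun h1 _).trans ?_
      refine (RingHom.congr_fun (away_dh ev 0 hu (by simp [ev])) _).trans ?_
      simp [ev]
  refine ⟨n, κ.opensRange, j₀ ≫ κ.isoOpensRange.hom, ?_, inferInstance, ?_⟩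
  · rintro _ ⟨y, rfl⟩
    have h : toZ S (n + 1) (κ y) = chart (n + 1) (ULift.{u} ℤ) 0 (pullback.fst wc (term V.toScheme) y) := by
      rw [← Scheme.Hom.comp_apply, ← Scheme.Hom.comp_apply]
      erw [pullback.lift_fst]
    show toZ S (n + 1) (κ y) ∈ Proj.basicOpen _ _
    rw [h, ← Proj.opensRange_awayι (CohB1.polyGrading (n + 1) (ULift.{u} ℤ)) (X 0) (X_mem 0) one_pos]
    exact ⟨_, rfl⟩
  · rw [Category.assoc, Scheme.Hom.isoOpensRange_hom_ι_assoc]
    show j₀ ≫ κ ≫ pullback.snd (str (n + 1) (ULift.{u} ℤ)) (term S) = _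
    erw [pullback.lift_snd]
    rw [← Category.assoc]
    erw [pullback.lift_snd]

end

end Groth.Agent.Chow
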