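import Groth.Agent.RDerLES
import Mathlib.Algebra.Homology.ShortComplex.PreservesHomology
import Mathlib.CategoryTheory.Abelian.Refinements
import Mathlib.CategoryTheory.Abelian.DiagramLemmas.KernelCokernelComp

/-!
Higher derived functors of a complex of injectives with cohomology in a given class.
-/

universe v u v' u'

open CategoryTheory CategoryTheory.Limits HomologicalComplex

namespace Groth.Agent.Chow.PushDevissage

variable {A : Type u} [Category.{v} A] [Abelian A] {B : Type u'} [Category.{v'} B] [Abelian B]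

/-- A class closed under kernels, cokernels and extensions. -/
structure Closed (Q : B → Prop) : Prop where
  iso : ∀ {M N : B}, (M ≅ N) → Q M → Q N
  ker : ∀ {M N : B} (f : M ⟶ N), Q M → Q N → Q (kernel f)
  coker : ∀ {M N : B} (f : M ⟶ N), Q M → Q N → Q (cokernel f)
  ext : ∀ {S : ShortComplex B}, S.ShortExact → Q S.X₁ → Q S.X₃ → Q S.X₂

variable {Q : B → Prop} (hQ : Closed Q)
include hQ

/-- The middle term of a five term exact sequence. -/
theorem Closed.mid {X M₁ M₂ M₃ Y : B} {x : X ⟶ M₁} {a : M₁ ⟶ M₂} {b : M₂ ⟶ M₃} {y : M₃ ⟶ Y}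
    {w₁ : x ≫ a = 0} {w₂ : a ≫ b = 0} {w₃ : b ≫ y = 0}
    (e₁ : (ShortComplex.mk x a w₁).Exact) (e₂ : (ShortComplex.mk a b w₂).Exact)
    (e₃ : (ShortComplex.mk b y w₃).Exact) (hX : Q X) (h₁ : Q M₁) (h₃ : Q M₃) (hY : Q Y) : Q M₂ := by
  let a' : cokernel x ⟶ M₂ := cokernel.desc x a w₁
  let b' : M₂ ⟶ kernel y := kernel.lift y b w₃
  have : Mono a' := e₁.mono_cokernelDesc
  have : Epi b' := e₃.epi_kernelLift
  have hz : a' ≫ b' = 0 := by
    rw [← cancel_epi (cokernel.π x), ← cancel_mono (kernel.ι y)]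
    simp [a', b', w₂]
  refine hQ.ext (S := ShortComplex.mk a' b' hz) (.mk ?_) (hQ.coker x hX h₁) (hQ.ker y h₃ hY)
  let φ : ShortComplex.mk a b' (by rw [← cancel_mono (kernel.ι y)]; simp [b', w₂]) ⟶
      ShortComplex.mk a' b' hz :=
    { τ₁ := cokernel.π x, τ₂ := 𝟙 _, τ₃ := 𝟙 _, comm₁₂ := by simp [a'], comm₂₃ := by simp }
  have : Epi φ.τ₁ := inferInstanceAs (Epi (cokernel.π x))
  have : IsIso φ.τ₂ := inferInstanceAs (IsIso (𝟙 _))
  have : Mono φ.τ₃ := inferInstanceAs (Mono (𝟙 _))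
  refine (ShortComplex.exact_iff_of_epi_of_isIso_of_mono φ).1 ?_
  let ψ : ShortComplex.mk a b' (by rw [← cancel_mono (kernel.ι y)]; simp [b', w₂]) ⟶
      ShortComplex.mk a b w₂ :=
    { τ₁ := 𝟙 _, τ₂ := 𝟙 _, τ₃ := kernel.ι y, comm₁₂ := by simp, comm₂₃ := by simp [b'] }
  have : Epi ψ.τ₁ := inferInstanceAs (Epi (𝟙 _))
  have : IsIso ψ.τ₂ := inferInstanceAs (IsIso (𝟙 _))
  have : Mono ψ.τ₃ := inferInstanceAs (Mono (kernel.ι y))
  exact (ShortComplex.exact_iff_of_epi_of_isIso_of_mono ψ).2 e₂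

theorem Closed.coker_comp {X Y Z : B} (f : X ⟶ Y) (g : Y ⟶ Z) [Mono g]
    (hf : Q (cokernel f)) (hg : Q (cokernel g)) : Q (cokernel (f ≫ g)) := by
  let a : cokernel f ⟶ cokernel (f ≫ g) := cokernel.map f (f ≫ g) (𝟙 _) g (by simp)
  let b : cokernel (f ≫ g) ⟶ cokernel g := cokernel.map (f ≫ g) g f (𝟙 _) (by simp)
  have hz : a ≫ b = 0 := by
    rw [← cancel_epi (cokernel.π f)]
    simp [a, b]
  have hex : (ShortComplex.mk a b hz).Exact := by
    rw [ShortComplex.exact_iff_exact_up_to_refinements]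
    intro T t ht
    dsimp at t ht ⊢
    obtain ⟨T₁, p, hp, z, hz'⟩ := surjective_up_to_refinements_of_epi (cokernel.π (f ≫ g)) t
    have hzg : z ≫ cokernel.π g = 0 := by
      have := congrArg (p ≫ ·) ht
      simpa [b, reassoc_of% hz'] using this
    obtain ⟨T₂, q, hq, y, hy⟩ :=
      ((ShortComplex.exact_of_g_is_cokernel (ShortComplex.mk g (cokernel.π g) (cokernel.condition g))
        (cokernelIsCokernel g)).exact_up_to_refinements z hzg)
    dsimp at y hy
    refine ⟨T₂, q ≫ p, inferInstance, y ≫ cokernel.π f, ?_⟩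
    simp [a, Category.assoc, hz', reassoc_of% hy]
  have hm : Mono a := by
    refine Preadditive.mono_of_cancel_zero _ fun {T} t ht => ?_
    obtain ⟨T₁, p, hp, z, hz'⟩ := surjective_up_to_refinements_of_epi (cokernel.π f) t
    have hzg : (z ≫ g) ≫ cokernel.π (f ≫ g) = 0 := by
      have := congrArg (p ≫ ·) ht
      simpa [a, reassoc_of% hz'] using this
    obtain ⟨T₂, q, hq, x, hx⟩ :=
      ((ShortComplex.exact_of_g_is_cokernel (ShortComplex.mk (f ≫ g) (cokernel.π (f ≫ g))
        (cokernel.condition _)) (cokernelIsCokernel _)).exact_up_to_refinements (z ≫ g) hzg)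
    dsimp at x hx
    have hx' : q ≫ z = x ≫ f := (cancel_mono g).1 (by simpa using hx)
    rw [← cancel_epi (q ≫ p)]
    simp [hz', reassoc_of% hx']
  have he : Epi b := by
    have : Epi (cokernel.π (f ≫ g) ≫ b) := by simp [b]; infer_instance
    exact epi_of_epi (cokernel.π (f ≫ g)) b
  exact hQ.ext (S := ShortComplex.mk a b hz) (.mk hex) hf hg

variable [EnoughInjectives A] (F : A ⥤ B) [F.Additive] [PreservesFiniteLimits F]

/-- The cohomology of `F` of a complex of injectives whose cohomology has derived functors in `Q`. -/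
theorem homology_mem (K : CochainComplex A ℕ) (hK : ∀ j, Injective (K.X j)) (n : ℕ)
    (h : ∀ j, j ≤ n → ∀ p, Q ((F.rightDerived p).obj (K.homology j))) (i : ℕ) (hi : i ≤ n) :
    Q (((F.mapHomologicalComplex _).obj K).homology i) := by
  let G := F.rightDerived 0
  have : PreservesFiniteLimits G := preservesFiniteLimits_of_natIso F.rightDerivedZeroIsoSelf.symm
  have : G.Additive := RDer.rightDerived_additive F 0
  suffices hG : Q (((G.mapHomologicalComplex _).obj K).homology i) from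
    hQ.iso ((homologyFunctor B _ i).mapIso
      ((NatIso.mapHomologicalComplex F.rightDerivedZeroIsoSelf _).app K)) hG
  let L := Groth.Agent.RDerLES.derivedLES F
  let π (j : ℕ) : K.X j ⟶ cokernel (K.iCycles j) := cokernel.π (K.iCycles j)
  have hw (j : ℕ) : K.iCycles j ≫ K.toCycles j (j + 1) = 0 := by
    rw [← cancel_mono (K.iCycles (j + 1))]; simp
  let m (j : ℕ) : cokernel (K.iCycles j) ⟶ K.cycles (j + 1) := cokernel.desc _ _ (hw j)
  have hm (j : ℕ) : Mono (m j) := by
    refine Preadditive.mono_of_cancel_zero _ fun {T} t ht => ?_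
    obtain ⟨T₁, p, hp, z, hz⟩ := surjective_up_to_refinements_of_epi (cokernel.π (K.iCycles j)) t
    have hzd : z ≫ K.d j (j + 1) = 0 := by
      have := congrArg (fun q => p ≫ q ≫ K.iCycles (j + 1)) ht
      simpa [m, reassoc_of% hz] using this
    rw [← cancel_epi p, comp_zero, hz, ← K.liftCycles_i z (j + 1) (by simp) hzd, Category.assoc,
      cokernel.condition, comp_zero]
  have hmw (j : ℕ) : m j ≫ K.homologyπ (j + 1) = 0 := by
    rw [← cancel_epi (cokernel.π (K.iCycles j))]; simp [m]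
  have hS1 (j : ℕ) : (ShortComplex.mk (K.iCycles j) (π j) (cokernel.condition _)).ShortExact :=
    .mk (ShortComplex.exact_of_g_is_cokernel _ (cokernelIsCokernel _))
  have hS2 (j : ℕ) : (ShortComplex.mk (m j) (K.homologyπ (j + 1)) (hmw j)).ShortExact := by
    have := hm j
    refine .mk ?_
    let φ : ShortComplex.mk (K.toCycles j (j + 1)) (K.homologyπ (j + 1)) (by simp) ⟶
        ShortComplex.mk (m j) (K.homologyπ (j + 1)) (hmw j) :=
      { τ₁ := π j, τ₂ := 𝟙 _, τ₃ := 𝟙 _, comm₁₂ := by simp [m, π], comm₂₃ := by simp }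
    have : Epi φ.τ₁ := inferInstanceAs (Epi (cokernel.π _))
    have : IsIso φ.τ₂ := inferInstanceAs (IsIso (𝟙 _))
    have : Mono φ.τ₃ := inferInstanceAs (Mono (𝟙 _))
    refine (ShortComplex.exact_iff_of_epi_of_isIso_of_mono φ).1 ?_
    exact ShortComplex.exact_of_g_is_cokernel _ (K.homologyIsCokernel j (j + 1) (by simp))
  have hinj (j p : ℕ) : IsZero ((F.rightDerived (p + 1)).obj (K.X j)) :=
    have := hK j
    F.isZero_rightDerived_obj_injective_succ p _
  have hC (j p : ℕ) : Nonempty ((F.rightDerived (p + 1)).obj (cokernel (K.iCycles j)) ≅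
      (F.rightDerived (p + 2)).obj (K.cycles j)) := by
    have e₁ := L.exact₃ _ (hS1 j) (p + 1) (p + 2) rfl
    have e₂ := L.exact₁ _ (hS1 j) (p + 1) (p + 2) rfl
    have : Mono (L.δ _ (hS1 j) (p + 1) (p + 2) rfl) := e₁.mono_g ((hinj j p).eq_of_src _ _)
    have : Epi (L.δ _ (hS1 j) (p + 1) (p + 2) rfl) := e₂.epi_f ((hinj j (p + 1)).eq_of_tgt _ _)
    have : IsIso (L.δ _ (hS1 j) (p + 1) (p + 2) rfl) := isIso_of_mono_of_epi _
    exact ⟨asIso (L.δ _ (hS1 j) (p + 1) (p + 2) rfl)⟩
  have hd0 : IsIso (K.homologyπ 0) := K.isIso_homologyπ 0 0 (by simp) (K.shape _ _ (by simp))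
  have hZ : ∀ j, j ≤ n → ∀ p, Q ((F.rightDerived (p + 1)).obj (K.cycles j)) := by
    intro j
    induction j with
    | zero => exact fun hj p => hQ.iso ((F.rightDerived _).mapIso (asIso (K.homologyπ 0)).symm) (h 0 hj _)
    | succ j ih =>
      intro hj p
      have hc : ∀ q, Q ((F.rightDerived (q + 1)).obj (cokernel (K.iCycles j))) := fun q =>
        let ⟨e⟩ := hC j q
        hQ.iso e.symm (ih (by omega) (q + 1))
      exact hQ.mid (L.exact₁ _ (hS2 j) p (p + 1) rfl) (L.exact₂ _ (hS2 j) (p + 1))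
        (L.exact₃ _ (hS2 j) (p + 1) (p + 2) rfl) (h _ hj _) (hc p) (h _ hj _) (hc (p + 1))
  let M := (G.mapHomologicalComplex (ComplexShape.up ℕ)).obj K
  let hl (j : ℕ) := KernelFork.mapIsLimit _ (K.cyclesIsKernel j (j + 1) (by simp)) G
  let e (j : ℕ) : M.cycles j ≅ G.obj (K.cycles j) :=
    IsLimit.conePointUniqueUpToIso (M.cyclesIsKernel j (j + 1) (by simp)) (hl j)
  have he (j : ℕ) : (e j).hom ≫ G.map (K.iCycles j) = M.iCycles j :=
    IsLimit.conePointUniqueUpToIso_hom_comp (M.cyclesIsKernel j (j + 1) (by simp)) (hl j)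
      WalkingParallelPair.zero
  cases i with
  | zero =>
    have : IsIso (M.homologyπ 0) := M.isIso_homologyπ 0 0 (by simp) (M.shape _ _ (by simp))
    exact hQ.iso (G.mapIso (asIso (K.homologyπ 0)).symm ≪≫ (e 0).symm ≪≫ asIso (M.homologyπ 0))
      (h 0 hi 0)
  | succ j =>
    let τ : G.obj (K.X j) ⟶ G.obj (K.cycles (j + 1)) := M.toCycles j (j + 1) ≫ (e (j + 1)).hom
    have hτ : τ = G.map (π j) ≫ G.map (m j) := by
      apply (cancel_mono (G.map (K.iCycles (j + 1)))).1
      refine ((Category.assoc _ _ _).trans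
        (congrArg (M.toCycles j (j + 1) ≫ ·) (he (j + 1)))).trans ((M.toCycles_i j (j + 1)).trans ?_)
      show G.map (K.d j (j + 1)) = _
      rw [← G.map_comp, ← G.map_comp]
      simp [π, m]
    have hh : Q (cokernel (G.map (π j) ≫ G.map (m j))) := by
      have := hm j
      refine hQ.coker_comp _ _ ?_ ?_
      · have e₃ := L.exact₃ _ (hS1 j) 0 1 rfl
        have : Epi (L.δ _ (hS1 j) 0 1 rfl) :=
          (L.exact₁ _ (hS1 j) 0 1 rfl).epi_f ((hinj j 0).eq_of_tgt _ _)
        exact hQ.iso (IsColimit.coconePointUniqueUpToIso e₃.gIsCokernel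
          (colimit.isColimit (parallelPair (G.map (π j)) 0))) (hZ j (by omega) 0)
      · let ⟨eC⟩ := hC j 0
        have hc : Q ((F.rightDerived 1).obj (cokernel (K.iCycles j))) := hQ.iso eC.symm (hZ j (by omega) 1)
        have e₂ := L.exact₂ _ (hS2 j) 0
        have e₃ := L.exact₃ _ (hS2 j) 0 1 rfl
        have hk := hQ.ker (L.δ _ (hS2 j) 0 1 rfl) (h (j + 1) hi 0) hc
        let b : G.obj (K.cycles (j + 1)) ⟶ kernel (L.δ _ (hS2 j) 0 1 rfl) :=
          kernel.lift _ (G.map (K.homologyπ (j + 1))) (L.comp_δ _ (hS2 j) 0 1 rfl)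
        have hb : Epi b := e₃.epi_kernelLift
        have hwb : G.map (m j) ≫ b = 0 := by
          rw [← cancel_mono (kernel.ι (L.δ _ (hS2 j) 0 1 rfl))]
          simp [b, ← G.map_comp, hmw j]
        have hex : (ShortComplex.mk (G.map (m j)) b hwb).Exact := by
          let ψ : ShortComplex.mk (G.map (m j)) b hwb ⟶
              (ShortComplex.mk (m j) (K.homologyπ (j + 1)) (hmw j)).map G :=
            { τ₁ := 𝟙 _, τ₂ := 𝟙 _, τ₃ := kernel.ι _, comm₁₂ := (Category.id_comp _).trans (Category.comp_id _).symm,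
              comm₂₃ := (Category.id_comp _).trans (kernel.lift_ι _ _ _).symm }
          have : Epi ψ.τ₁ := inferInstanceAs (Epi (𝟙 _))
          have : IsIso ψ.τ₂ := inferInstanceAs (IsIso (𝟙 _))
          have : Mono ψ.τ₃ := inferInstanceAs (Mono (kernel.ι (L.δ _ (hS2 j) 0 1 rfl)))
          exact (ShortComplex.exact_iff_of_epi_of_isIso_of_mono ψ).2 e₂
        exact hQ.iso (IsColimit.coconePointUniqueUpToIso hex.gIsCokernel
          (colimit.isColimit (parallelPair (G.map (m j)) 0))) hk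
    refine hQ.iso ?_ hh
    exact (cokernel.mapIso (M.toCycles j (j + 1)) (G.map (π j) ≫ G.map (m j)) (Iso.refl _) (e (j + 1))
        (hτ.trans (Category.id_comp _).symm)).symm ≪≫
      (cokernelIsCokernel _).coconePointUniqueUpToIso (M.homologyIsCokernel j (j + 1) (by simp))

end Groth.Agent.Chow.PushDevissage
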