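import Groth.Agent.Chow.Coords

/-! The Segre embedding. -/

universe u

open CategoryTheory CategoryTheory.Limits AlgebraicGeometry MvPolynomial HomogeneousLocalization
open scoped TensorProduct

namespace Groth.Agent.Chow

noncomputable section

variable (n m : ℕ) (R : Type u) [CommRing R]

/-- Scalar structure on the degree zero localisation. -/
local instance awayAlgebra {k : ℕ} (f : MvPolynomial (Fin (k + 1)) R) :
    Algebra R (Away (CohB1.polyGrading k R) f) :=
  (scal k R f).toAlgebra

/-- The index set of the Segre coordinates. -/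
def segreIdx : Fin (n * m + n + m + 1) ≃ Fin (n + 1) × Fin (m + 1) :=
  (finCongr (by ring : n * m + n + m + 1 = (n + 1) * (m + 1))).trans finProdFinEquiv.symm

/-- `P^n ×_R P^m`. -/
abbrev Prod : Scheme.{u} := pullback (str n R) (str m R)

/-- An affine piece of `P^n ×_R P^m`. -/
abbrev Piece (ij : Fin (n + 1) × Fin (m + 1)) : Scheme.{u} :=
  Spec (.of (Away (CohB1.polyGrading n R) (X ij.1) ⊗[R] Away (CohB1.polyGrading m R) (X ij.2)))

/-- First projection of a piece. -/
abbrev pieceFst (ij : Fin (n + 1) × Fin (m + 1)) :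
    Piece n m R ij ⟶ Spec (.of <| Away (CohB1.polyGrading n R) (X ij.1)) :=
  Spec.map (CommRingCat.ofHom Algebra.TensorProduct.includeLeftRingHom)

/-- Second projection of a piece. -/
abbrev pieceSnd (ij : Fin (n + 1) × Fin (m + 1)) :
    Piece n m R ij ⟶ Spec (.of <| Away (CohB1.polyGrading m R) (X ij.2)) :=
  Spec.map (CommRingCat.ofHom (Algebra.TensorProduct.includeRight :
    Away (CohB1.polyGrading m R) (X ij.2) →ₐ[R] _).toRingHom)

theorem chart_str {k : ℕ} (i : Fin (k + 1)) :
    chart k R i ≫ str k R =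
      Spec.map (CommRingCat.ofHom (algebraMap R (Away (CohB1.polyGrading k R) (X i)))) :=
  chart_toSpec (X i) (X_mem i) one_pos

theorem piece_cond (ij : Fin (n + 1) × Fin (m + 1)) :
    (pieceFst n m R ij ≫ chart n R ij.1) ≫ str n R = (pieceSnd n m R ij ≫ chart m R ij.2) ≫ str m R := by
  simp only [Category.assoc, chart_str, pieceFst, pieceSnd, ← Spec.map_comp, ← CommRingCat.ofHom_comp]
  congr 2
  exact ((Algebra.TensorProduct.includeRight : Away (CohB1.polyGrading m R) (X ij.2) →ₐ[R]
    Away (CohB1.polyGrading n R) (X ij.1) ⊗[R] _).comp_algebraMap).symm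

/-- The inclusion of a piece. -/
def pieceι (ij : Fin (n + 1) × Fin (m + 1)) : Piece n m R ij ⟶ Prod n m R :=
  pullback.lift (pieceFst n m R ij ≫ chart n R ij.1) (pieceSnd n m R ij ≫ chart m R ij.2)
    (piece_cond n m R ij)

theorem pieceι_eq (ij : Fin (n + 1) × Fin (m + 1)) :
    pieceι n m R ij =
      ((pullbackSpecIso R (Away (CohB1.polyGrading n R) (X ij.1))
        (Away (CohB1.polyGrading m R) (X ij.2))).inv ≫
      pullback.map _ _ (str n R) (str m R) (chart n R ij.1) (chart m R ij.2) (𝟙 _)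
        (by rw [Category.comp_id, chart_str]) (by rw [Category.comp_id, chart_str])) := by
  apply pullback.hom_ext
  · rw [pieceι, Category.assoc]
    erw [pullback.lift_fst, pullback.lift_fst, pullbackSpecIso_inv_fst_assoc]
  · rw [pieceι, Category.assoc]
    erw [pullback.lift_snd, pullback.lift_snd, pullbackSpecIso_inv_snd_assoc]
    rfl

instance isOpenImmersion_pieceι (ij : Fin (n + 1) × Fin (m + 1)) :
    IsOpenImmersion (pieceι n m R ij) := by
  rw [pieceι_eq]
  infer_instance

theorem exists_mem_chart {k : ℕ} (y : Pr k R) :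
    ∃ i : Fin (k + 1), y ∈ Proj.basicOpen (CohB1.polyGrading k R) (X i) := by
  refine TopologicalSpace.Opens.mem_iSup.mp ((Proj.iSup_basicOpen_eq_top' (CohB1.polyGrading k R)
    (fun i : Fin (k + 1) => (X i : MvPolynomial (Fin (k + 1)) R)) (fun i => ⟨1, X_mem i⟩) ?_).ge trivial)
  refine top_le_iff.mp fun p _ => ?_
  clear * - p
  induction p using MvPolynomial.induction_on with
  | C r => exact Subalgebra.algebraMap_mem _ (⟨C r, C_mem r⟩ : CohB1.polyGrading k R 0)
  | add p q hp hq => exact add_mem hp hq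
  | mul_X p i hp => exact mul_mem hp (Algebra.subset_adjoin ⟨i, rfl⟩)

theorem range_pieceι (ij : Fin (n + 1) × Fin (m + 1)) :
    Set.range (pieceι n m R ij) =
      pullback.fst (str n R) (str m R) ⁻¹' (Proj.basicOpen (CohB1.polyGrading n R) (X ij.1) : Set (Pr n R)) ∩
        pullback.snd (str n R) (str m R) ⁻¹' (Proj.basicOpen (CohB1.polyGrading m R) (X ij.2) : Set (Pr m R)) := by
  rw [pieceι_eq, ← Scheme.Hom.coe_opensRange, Scheme.Hom.opensRange_comp_of_isIso,
    Scheme.Hom.coe_opensRange, Scheme.Pullback.range_map]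
  simp only [← Proj.opensRange_awayι (CohB1.polyGrading n R) (X ij.1) (X_mem ij.1) one_pos,
    ← Proj.opensRange_awayι (CohB1.polyGrading m R) (X ij.2) (X_mem ij.2) one_pos,
    Scheme.Hom.coe_opensRange]

/-- The cover of the product by pieces. -/
def prodCover : (Prod n m R).OpenCover :=
  Scheme.Cover.mkOfCovers (Fin (n + 1) × Fin (m + 1)) (Piece n m R) (pieceι n m R)
    (fun x => by
      obtain ⟨i, hi⟩ := exists_mem_chart R (pullback.fst (str n R) (str m R) x)
      obtain ⟨j, hj⟩ := exists_mem_chart R (pullback.snd (str n R) (str m R) x)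
      have : x ∈ Set.range (pieceι n m R (i, j)) := by
        rw [range_pieceι]; exact ⟨hi, hj⟩
      obtain ⟨y, hy⟩ := this
      exact ⟨(i, j), y, hy⟩)
    (isOpenImmersion_pieceι n m R)

theorem exists_piece (x : Prod n m R) :
    ∃ (ij : Fin (n + 1) × Fin (m + 1)) (y : Piece n m R ij), pieceι n m R ij y = x :=
  (prodCover n m R).exists_eq x

theorem piece_hom_ext {Y : Scheme.{u}} (f g : Prod n m R ⟶ Y)
    (h : ∀ ij, pieceι n m R ij ≫ f = pieceι n m R ij ≫ g) : f = g :=
  (prodCover n m R).hom_ext _ _ h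

theorem pieceι_fst (ij : Fin (n + 1) × Fin (m + 1)) :
    pieceι n m R ij ≫ pullback.fst (str n R) (str m R) = pieceFst n m R ij ≫ chart n R ij.1 :=
  pullback.lift_fst _ _ _

theorem pieceι_snd (ij : Fin (n + 1) × Fin (m + 1)) :
    pieceι n m R ij ≫ pullback.snd (str n R) (str m R) = pieceSnd n m R ij ≫ chart m R ij.2 :=
  pullback.lift_snd _ _ _

variable {n m R}

/-- Segre coordinates of a `T`-point. -/
def segreEv {B : Type*} [CommRing B] (p : MvPolynomial (Fin (n + 1)) R →+* B)
    (q : MvPolynomial (Fin (m + 1)) R →+* B) :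
    MvPolynomial (Fin (n * m + n + m + 1)) R →+* B :=
  eval₂Hom (p.comp C) fun t => p (X (segreIdx n m t).1) * q (X (segreIdx n m t).2)

theorem segreEv_X {B : Type*} [CommRing B] (p : MvPolynomial (Fin (n + 1)) R →+* B)
    (q : MvPolynomial (Fin (m + 1)) R →+* B) (ij : Fin (n + 1) × Fin (m + 1)) :
    segreEv p q (X ((segreIdx n m).symm ij)) = p (X ij.1) * q (X ij.2) := by
  simp [segreEv]

variable {T : Scheme.{u}}

theorem segreEv_isUnit (i : Fin (n + 1)) (j : Fin (m + 1))
    (a : T ⟶ Spec (.of <| Away (CohB1.polyGrading n R) (X i)))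
    (b : T ⟶ Spec (.of <| Away (CohB1.polyGrading m R) (X j))) :
    IsUnit (segreEv (coords i a) (coords j b) (X ((segreIdx n m).symm (i, j)))) := by
  rw [segreEv_X, coords_self, coords_self, mul_one]
  exact isUnit_one

/-- The Segre point of a pair of chart points. -/
def segrePt (i : Fin (n + 1)) (j : Fin (m + 1))
    (a : T ⟶ Spec (.of <| Away (CohB1.polyGrading n R) (X i)))
    (b : T ⟶ Spec (.of <| Away (CohB1.polyGrading m R) (X j))) : T ⟶ Pr (n * m + n + m) R :=
  pt (segreEv (coords i a) (coords j b)) (X ((segreIdx n m).symm (i, j))) (X_mem _) one_pos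
    (segreEv_isUnit i j a b)

theorem coords_comp {T' : Scheme.{u}} {k : ℕ} (g : T' ⟶ T) (i : Fin (k + 1))
    (a : T ⟶ Spec (.of <| Away (CohB1.polyGrading k R) (X i))) :
    coords i (g ≫ a) = g.appTop.hom.comp (coords i a) := by
  refine RingHom.ext fun x => ?_
  simp only [coords, specHom, Scheme.Hom.comp_appTop]
  rfl

theorem comp_segrePt {T' : Scheme.{u}} (g : T' ⟶ T) (i : Fin (n + 1)) (j : Fin (m + 1))
    (a : T ⟶ Spec (.of <| Away (CohB1.polyGrading n R) (X i)))
    (b : T ⟶ Spec (.of <| Away (CohB1.polyGrading m R) (X j))) :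
    g ≫ segrePt i j a b = segrePt i j (g ≫ a) (g ≫ b) := by
  rw [segrePt, segrePt, comp_pt]
  refine pt_congr ?_ rfl rfl _ _ _ _ _ _
  refine MvPolynomial.ringHom_ext (fun r => ?_) fun t => ?_ <;> simp [segreEv, coords_comp]

theorem segrePt_eq (i k : Fin (n + 1)) (j l : Fin (m + 1))
    (a : T ⟶ Spec (.of <| Away (CohB1.polyGrading n R) (X i)))
    (b : T ⟶ Spec (.of <| Away (CohB1.polyGrading m R) (X j)))
    (a' : T ⟶ Spec (.of <| Away (CohB1.polyGrading n R) (X k)))
    (b' : T ⟶ Spec (.of <| Away (CohB1.polyGrading m R) (X l)))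
    (ha : a ≫ chart n R i = a' ≫ chart n R k) (hb : b ≫ chart m R j = b' ≫ chart m R l) :
    segrePt i j a b = segrePt k l a' b' := by
  obtain ⟨hρ, c, hc, hca⟩ := exists_scale i k a a' ha
  obtain ⟨-, d, hd, hdb⟩ := exists_scale j l b b' hb
  have hev : segreEv (coords k a') (coords l b') = eval₂Hom ((coords i a).comp C)
      (fun t => (c * d) * (coords i a (X (segreIdx n m t).1) * coords j b (X (segreIdx n m t).2))) := by
    simp only [segreEv, hρ, hca, hdb]
    congr 1
    ext t
    ring
  have hu : IsUnit (segreEv (coords i a) (coords j b) (X ((segreIdx n m).symm (k, l)))) := by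
    have h := segreEv_isUnit k l a' b'
    rw [segreEv_X] at h ⊢
    rw [hca, hdb, mul_mul_mul_comm] at h
    exact isUnit_of_mul_isUnit_right h
  rw [segrePt, pt_eq_of_isUnit _ (X_mem _) one_pos (X_mem _) one_pos _ hu]
  symm
  have h' : IsUnit (eval₂Hom ((coords i a).comp C) (fun t => (c * d) *
      (coords i a (X (segreIdx n m t).1) * coords j b (X (segreIdx n m t).2)))
      (X ((segreIdx n m).symm (k, l)))) := hev ▸ segreEv_isUnit k l a' b'
  rw [segrePt, pt_congr hev rfl rfl (X_mem _) one_pos _ (X_mem _) one_pos h']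
  exact pt_scale _ _ _ (hc.mul hd) _ _ hu _

variable (n m R)

/-- The Segre morphism on a piece. -/
abbrev segrePiece (ij : Fin (n + 1) × Fin (m + 1)) : Piece n m R ij ⟶ Pr (n * m + n + m) R :=
  segrePt ij.1 ij.2 (pieceFst n m R ij) (pieceSnd n m R ij)

/-- The Segre morphism over a ring. -/
def segre : Prod n m R ⟶ Pr (n * m + n + m) R :=
  (prodCover n m R).glueMorphisms (segrePiece n m R) (fun (x y : Fin (n + 1) × Fin (m + 1)) => by
    show pullback.fst (pieceι n m R x) (pieceι n m R y) ≫
        segrePt x.1 x.2 (pieceFst n m R x) (pieceSnd n m R x) =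
      pullback.snd (pieceι n m R x) (pieceι n m R y) ≫
        segrePt y.1 y.2 (pieceFst n m R y) (pieceSnd n m R y)
    rw [comp_segrePt, comp_segrePt]
    have h := pullback.condition (f := pieceι n m R x) (g := pieceι n m R y)
    have h1 := congrArg (· ≫ pullback.fst (str n R) (str m R)) h
    have h2 := congrArg (· ≫ pullback.snd (str n R) (str m R)) h
    simp only [Category.assoc] at h1 h2
    rw [pieceι_fst, pieceι_fst] at h1
    rw [pieceι_snd, pieceι_snd] at h2
    exact segrePt_eq _ _ _ _ _ _ _ _ ((Category.assoc _ _ _).trans (h1.trans (Category.assoc _ _ _).symm))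
      ((Category.assoc _ _ _).trans (h2.trans (Category.assoc _ _ _).symm)))

@[reassoc]
theorem pieceι_segre (ij : Fin (n + 1) × Fin (m + 1)) :
    pieceι n m R ij ≫ segre n m R = segrePiece n m R ij :=
  (prodCover n m R).ι_glueMorphisms _ _ ij

theorem segre_str : segre n m R ≫ str (n * m + n + m) R =
    pullback.fst (str n R) (str m R) ≫ str n R := by
  refine piece_hom_ext n m R _ _ fun ij => ?_
  conv_rhs => rw [← Category.assoc, pieceι_fst]
  rw [← Category.assoc, pieceι_segre]
  show pt _ _ _ _ _ ≫ str _ R = _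
  rw [comp_chart_eq_pt, pt_toSpec, pt_toSpec]
  congr 3
  refine RingHom.ext fun r => ?_
  simp [segreEv]

theorem segre_preimage (ij : Fin (n + 1) × Fin (m + 1)) :
    segre n m R ⁻¹ᵁ Proj.basicOpen (CohB1.polyGrading (n * m + n + m) R)
      (X ((segreIdx n m).symm ij)) = (pieceι n m R ij).opensRange := by
  refine TopologicalSpace.Opens.ext (Set.ext fun x => ?_)
  obtain ⟨kl, y, rfl⟩ := exists_piece n m R x
  have e0 : (pieceι n m R kl y ∈ segre n m R ⁻¹ᵁ Proj.basicOpen (CohB1.polyGrading (n * m + n + m) R)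
      (X ((segreIdx n m).symm ij))) ↔ y ∈ pt (segreEv (coords kl.1 (pieceFst n m R kl))
        (coords kl.2 (pieceSnd n m R kl))) (X ((segreIdx n m).symm kl)) (X_mem _) one_pos
        (segreEv_isUnit _ _ _ _) ⁻¹ᵁ
          Proj.basicOpen (CohB1.polyGrading (n * m + n + m) R) (X ((segreIdx n m).symm ij)) := by
    show _ ↔ y ∈ segrePiece n m R kl ⁻¹ᵁ _
    rw [← pieceι_segre, Scheme.Hom.comp_preimage]
    rfl
  have e1 : (pullback.fst (str n R) (str m R) (pieceι n m R kl y) ∈
      Proj.basicOpen (CohB1.polyGrading n R) (X ij.1)) ↔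
      y ∈ (Piece n m R kl).basicOpen (coords kl.1 (pieceFst n m R kl) (X ij.1)) := by
    rw [← pt_preimage_basicOpen (coords kl.1 (pieceFst n m R kl)) (X_mem kl.1) (X_mem ij.1)
      (by rw [coords_self]; exact isUnit_one), ← comp_chart_eq_pt, ← pieceι_fst,
      ← Scheme.Hom.comp_apply]
    rfl
  have e2 : (pullback.snd (str n R) (str m R) (pieceι n m R kl y) ∈
      Proj.basicOpen (CohB1.polyGrading m R) (X ij.2)) ↔
      y ∈ (Piece n m R kl).basicOpen (coords kl.2 (pieceSnd n m R kl) (X ij.2)) := by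
    rw [← pt_preimage_basicOpen (coords kl.2 (pieceSnd n m R kl)) (X_mem kl.2) (X_mem ij.2)
      (by rw [coords_self]; exact isUnit_one), ← comp_chart_eq_pt, ← pieceι_snd,
      ← Scheme.Hom.comp_apply]
    rfl
  refine e0.trans ?_
  rw [Scheme.Hom.coe_opensRange, range_pieceι, pt_preimage_basicOpen _ (X_mem _) (X_mem _),
    segreEv_X, Scheme.basicOpen_mul, TopologicalSpace.Opens.mem_inf]
  exact (and_congr e1 e2).symm

theorem tmul_mem_left (ij : Fin (n + 1) × Fin (m + 1)) (p : MvPolynomial (Fin (n + 1)) R) :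
    (Scheme.ΓSpecIso (.of (Away (CohB1.polyGrading n R) (X ij.1) ⊗[R]
      Away (CohB1.polyGrading m R) (X ij.2)))).inv
      (dh n R ij.1 p ⊗ₜ[R] (1 : Away (CohB1.polyGrading m R) (X ij.2))) =
        coords ij.1 (pieceFst n m R ij) p := by
  have h := congr($(Scheme.ΓSpecIso_inv_naturality (CommRingCat.ofHom
    (Algebra.TensorProduct.includeLeftRingHom : Away (CohB1.polyGrading n R) (X ij.1) →+*
      Away (CohB1.polyGrading n R) (X ij.1) ⊗[R] Away (CohB1.polyGrading m R) (X ij.2)))) (dh n R ij.1 p))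
  exact h

theorem tmul_mem_right (ij : Fin (n + 1) × Fin (m + 1)) (p : MvPolynomial (Fin (m + 1)) R) :
    (Scheme.ΓSpecIso (.of (Away (CohB1.polyGrading n R) (X ij.1) ⊗[R]
      Away (CohB1.polyGrading m R) (X ij.2)))).inv
      ((1 : Away (CohB1.polyGrading n R) (X ij.1)) ⊗ₜ[R] dh m R ij.2 p) =
        coords ij.2 (pieceSnd n m R ij) p := by
  have h := congr($(Scheme.ΓSpecIso_inv_naturality (CommRingCat.ofHom
    (Algebra.TensorProduct.includeRight : Away (CohB1.polyGrading m R) (X ij.2) →ₐ[R]
      Away (CohB1.polyGrading n R) (X ij.1) ⊗[R] Away (CohB1.polyGrading m R) (X ij.2)).toRingHom))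
    (dh m R ij.2 p))
  exact h

/-- The coordinate map of a piece. -/
abbrev pieceEv (ij : Fin (n + 1) × Fin (m + 1)) :=
  segreEv (coords ij.1 (pieceFst n m R ij)) (coords ij.2 (pieceSnd n m R ij))

theorem away_pieceEv_surjective (ij : Fin (n + 1) × Fin (m + 1)) :
    Function.Surjective (away (pieceEv n m R ij) (X ((segreIdx n m).symm ij))
      (segreEv_isUnit ij.1 ij.2 _ _)) := by
  set q := away (pieceEv n m R ij) (X ((segreIdx n m).symm ij)) (segreEv_isUnit ij.1 ij.2 _ _)
  have hev : ∀ p, pieceEv n m R ij p ∈ q.range := fun p => ⟨dh _ R _ p, RingHom.congr_fun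
    (away_dh (pieceEv n m R ij) ((segreIdx n m).symm ij) (segreEv_isUnit ij.1 ij.2 _ _)
      (by rw [segreEv_X, coords_self, coords_self, mul_one])) p⟩
  have hC : ∀ r, coords ij.2 (pieceSnd n m R ij) (C r) = coords ij.1 (pieceFst n m R ij) (C r) := by
    intro r
    have h := piece_cond n m R ij
    simp only [comp_chart_eq_pt, pt_toSpec] at h
    exact (RingHom.congr_fun (toSpecΓ_SpecMap_injective (C := CommRingCat.of R) h) r).symm
  have h1 : ∀ p, coords ij.1 (pieceFst n m R ij) p ∈ q.range := by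
    intro p
    induction p using MvPolynomial.induction_on with
    | C r => simpa [segreEv] using hev (C r)
    | add p p' hp hp' => rw [map_add]; exact add_mem hp hp'
    | mul_X p s hp =>
      rw [map_mul]
      refine mul_mem hp ?_
      simpa [segreEv_X, coords_self] using hev (X ((segreIdx n m).symm (s, ij.2)))
  have h2 : ∀ p, coords ij.2 (pieceSnd n m R ij) p ∈ q.range := by
    intro p
    induction p using MvPolynomial.induction_on with
    | C r => rw [hC]; simpa [segreEv] using hev (C r)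
    | add p p' hp hp' => rw [map_add]; exact add_mem hp hp'
    | mul_X p s hp =>
      rw [map_mul]
      refine mul_mem hp ?_
      simpa [segreEv_X, coords_self] using hev (X ((segreIdx n m).symm (ij.1, s)))
  let θ : Away (CohB1.polyGrading n R) (X ij.1) ⊗[R] Away (CohB1.polyGrading m R) (X ij.2) →+*
      Γ(Piece n m R ij, ⊤) := (Scheme.ΓSpecIso (.of (Away (CohB1.polyGrading n R) (X ij.1) ⊗[R]
        Away (CohB1.polyGrading m R) (X ij.2)))).inv.hom
  have hθ : Function.Surjective θ := (ConcreteCategory.bijective_of_isIso (Scheme.ΓSpecIso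
    (.of (Away (CohB1.polyGrading n R) (X ij.1) ⊗[R] Away (CohB1.polyGrading m R) (X ij.2)))).inv).2
  have hrange : ∀ w, θ w ∈ q.range := by
    intro w
    induction w using TensorProduct.induction_on with
    | zero => rw [map_zero]; exact zero_mem _
    | add w w' hw hw' => rw [map_add]; exact add_mem hw hw'
    | tmul a b =>
      obtain ⟨p, rfl⟩ := ZetaLib.dehom_surjective (CohB1.polyGrading n R) (X_mem ij.1) a
      obtain ⟨p', rfl⟩ := ZetaLib.dehom_surjective (CohB1.polyGrading m R) (X_mem ij.2) b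
      have e : θ (dh n R ij.1 p ⊗ₜ[R] dh m R ij.2 p') =
          coords ij.1 (pieceFst n m R ij) p * coords ij.2 (pieceSnd n m R ij) p' := by
        rw [← tmul_mem_left, ← tmul_mem_right]
        show _ = θ _ * θ _
        rw [← map_mul, Algebra.TensorProduct.tmul_mul_tmul, mul_one, one_mul]
      rw [e]
      exact mul_mem (h1 p) (h2 p')
  intro z
  obtain ⟨w, rfl⟩ := hθ z
  exact hrange w

/-- The charts as a cover. -/
def chartCover (k : ℕ) : (Pr k R).OpenCover :=
  Scheme.Cover.mkOfCovers (Fin (k + 1))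
    (fun t => Spec (.of <| Away (CohB1.polyGrading k R) (X t))) (chart k R)
    (fun y => by
      obtain ⟨t, ht⟩ := exists_mem_chart R y
      rw [← Proj.opensRange_awayι (CohB1.polyGrading k R) (X t) (X_mem t) one_pos] at ht
      obtain ⟨z, hz⟩ := ht
      exact ⟨t, z, hz⟩)
    (fun t => inferInstance)

theorem isClosedImmersion_toSpecΓ_map {T : Scheme.{u}} [IsAffine T] {C : CommRingCat.{u}}
    (φ : C →+* Γ(T, ⊤)) (hφ : Function.Surjective φ) :
    IsClosedImmersion (T.toSpecΓ ≫ Spec.map (CommRingCat.ofHom φ)) := by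
  refine IsClosedImmersion.of_surjective_of_isAffine _ fun z => ?_
  obtain ⟨a, ha⟩ := hφ z
  exact ⟨(Scheme.ΓSpecIso C).inv a, (RingHom.congr_fun (specHom_toSpecΓ φ) a).trans ha⟩

theorem isClosedImmersion_snd_of_preimage {U V X Y : Scheme.{u}} (φ : U ⟶ V) (iU : U ⟶ X)
    (iV : V ⟶ Y) (f : X ⟶ Y) [IsOpenImmersion iU] [IsOpenImmersion iV] [IsClosedImmersion φ]
    (H : iU ≫ f = φ ≫ iV) (H' : f ⁻¹ᵁ iV.opensRange = iU.opensRange) :
    IsClosedImmersion (pullback.snd f iV) := by
  rw [← IsPullback.isoPullback_inv_snd (IsOpenImmersion.isPullback φ iU iV f H H').flip]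
  infer_instance

theorem isClosedImmersion_snd_chart (ij : Fin (n + 1) × Fin (m + 1)) :
    IsClosedImmersion
      (pullback.snd (segre n m R) (chart (n * m + n + m) R ((segreIdx n m).symm ij))) := by
  have h1 := isClosedImmersion_toSpecΓ_map (T := Piece n m R ij)
    (C := CommRingCat.of (Away (CohB1.polyGrading (n * m + n + m) R) (X ((segreIdx n m).symm ij))))
    (away (pieceEv n m R ij) (X ((segreIdx n m).symm ij)) (segreEv_isUnit ij.1 ij.2 _ _))
    (away_pieceEv_surjective n m R ij)
  refine @isClosedImmersion_snd_of_preimage _ _ _ _ _ (pieceι n m R ij)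
    (chart (n * m + n + m) R ((segreIdx n m).symm ij)) (segre n m R) _ _ h1
    ((pieceι_segre n m R ij).trans (Category.assoc _ _ _).symm) ?_
  rw [Proj.opensRange_awayι, segre_preimage]

instance isClosedImmersion_segre : IsClosedImmersion (segre n m R) :=
  IsZariskiLocalAtTarget.of_openCover (P := @IsClosedImmersion)
    (chartCover R (n * m + n + m)) fun (t : Fin (n * m + n + m + 1)) => by
      show IsClosedImmersion (pullback.snd (segre n m R) (chart (n * m + n + m) R t))
      have h := isClosedImmersion_snd_chart n m R (segreIdx n m t)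
      rwa [Equiv.symm_apply_apply] at h

end

end Groth.Agent.Chow
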